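import Mathlib

set_option autoImplicit false

namespace Cfsg.Agent.Lib.Helper49.RankOne

universe u

section ClassTwo

variable {P : Type*} [Group P]

/-- If `c = g⁻¹ h g h⁻¹` is central then `h^k g = g c^k h^k`. -/
theorem pow_mul_of_central (g h : P) (hc : ∀ z : P, Commute (g⁻¹ * h * g * h⁻¹) z) (k : ℕ) :
    h ^ k * g = g * (g⁻¹ * h * g * h⁻¹) ^ k * h ^ k := by
  have e : g⁻¹ * h * g = (g⁻¹ * h * g * h⁻¹) * h := by group
  have e2 : g⁻¹ * h ^ k * g = (g⁻¹ * h * g) ^ k := by
    have := map_pow (MulAut.conj g⁻¹) h k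
    simpa [MulAut.conj_apply] using this
  have e3 : (g⁻¹ * h * g) ^ k = (g⁻¹ * h * g * h⁻¹) ^ k * h ^ k :=
    (congrArg (· ^ k) e).trans ((hc h).mul_pow k)
  calc h ^ k * g = g * (g⁻¹ * h ^ k * g) := by group
    _ = g * ((g⁻¹ * h * g * h⁻¹) ^ k * h ^ k) := by rw [e2, e3]
    _ = g * (g⁻¹ * h * g * h⁻¹) ^ k * h ^ k := (mul_assoc _ _ _).symm

/-- The power formula in class two. -/
theorem mul_pow_of_central (g h : P) (hc : ∀ z : P, Commute (g⁻¹ * h * g * h⁻¹) z) (k : ℕ) :
    (g * h) ^ k = g ^ k * h ^ k * (g⁻¹ * h * g * h⁻¹) ^ (∑ i ∈ Finset.range k, i) := by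
  induction k with
  | zero => simp
  | succ k ih =>
    set c := g⁻¹ * h * g * h⁻¹ with hcdef
    set T := ∑ i ∈ Finset.range k, i with hT
    rw [pow_succ, ih, Finset.sum_range_succ, ← hT]
    have h1 : c ^ T * (g * h) = (g * h) * c ^ T := ((hc (g * h)).pow_left T).eq
    have h2 : h ^ k * g = g * c ^ k * h ^ k := pow_mul_of_central g h hc k
    have h3 : c ^ k * h ^ (k + 1) = h ^ (k + 1) * c ^ k := ((hc (h ^ (k + 1))).pow_left k).eq
    calc g ^ k * h ^ k * c ^ T * (g * h) = g ^ k * h ^ k * (c ^ T * (g * h)) := by rw [mul_assoc]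
      _ = g ^ k * h ^ k * ((g * h) * c ^ T) := by rw [h1]
      _ = g ^ k * (h ^ k * g) * h * c ^ T := by simp only [mul_assoc]
      _ = g ^ k * (g * c ^ k * h ^ k) * h * c ^ T := by rw [h2]
      _ = g ^ (k + 1) * (c ^ k * h ^ (k + 1)) * c ^ T := by
        rw [pow_succ g, pow_succ h]; simp only [mul_assoc]
      _ = g ^ (k + 1) * (h ^ (k + 1) * c ^ k) * c ^ T := by rw [h3]
      _ = g ^ (k + 1) * h ^ (k + 1) * c ^ (T + k) := by
        rw [add_comm T k, pow_add c k T]; simp only [mul_assoc]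

/-- In class two with central `p`-th powers (`p` odd), the `p`-th power map is multiplicative. -/
theorem mul_pow_prime_of_central {p : ℕ} (hp : p.Prime) (hp2 : p ≠ 2) (g h : P)
    (hc : ∀ z : P, Commute (g⁻¹ * h * g * h⁻¹) z) (hh : ∀ z : P, Commute (h ^ p) z) :
    (g * h) ^ p = g ^ p * h ^ p := by
  set c := g⁻¹ * h * g * h⁻¹ with hcdef
  have hcp : c ^ p = 1 := by
    have h1 := pow_mul_of_central g h hc p
    have h2 : h ^ p * g = g * h ^ p := (hh g).eq
    rw [h2, mul_assoc] at h1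
    have h3 := mul_left_cancel h1
    have h4 : 1 * h ^ p = c ^ p * h ^ p := by rw [one_mul]; exact h3
    exact (mul_right_cancel h4).symm
  have hT : p ∣ ∑ i ∈ Finset.range p, i := by
    have h1 := Finset.sum_range_id_mul_two p
    have h2 : p ∣ (∑ i ∈ Finset.range p, i) * 2 := by rw [h1]; exact dvd_mul_right p (p - 1)
    have h3 : Nat.Coprime p 2 := (Nat.coprime_primes hp Nat.prime_two).mpr hp2
    exact h3.dvd_of_dvd_mul_right h2
  obtain ⟨t, ht⟩ := hT
  rw [mul_pow_of_central g h hc p, ht, pow_mul, hcp, one_pow, mul_one]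

end ClassTwo

/-- A finite `p`-group, `p` odd, with at most `p` solutions of `g ^ p = 1` is cyclic. -/
theorem isCyclic_of_card_pow_eq_one_le {p : ℕ} [hp : Fact p.Prime] (hp2 : p ≠ 2) :
    ∀ (n : ℕ) (P : Type u) [Group P] [Finite P], Nat.card P = p ^ n →
      Nat.card {g : P // g ^ p = 1} ≤ p → IsCyclic P := by
  intro n
  induction n with
  | zero =>
    intro P _ _ hcard hU
    rw [pow_zero] at hcard
    have : Subsingleton P := Finite.card_le_one_iff_subsingleton.mp hcard.le
    exact isCyclic_of_subsingleton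
  | succ n ih =>
    intro P _ _ hcard hU
    by_contra hnc
    have hpp := hp.out
    have hdvd : p ^ n ∣ Nat.card P := by rw [hcard]; exact pow_dvd_pow p (Nat.le_succ n)
    have hU_sub : ∀ M : Subgroup P, Nat.card {g : ↥M // g ^ p = 1} ≤ p := by
      intro M
      refine le_trans (Nat.card_le_card_of_injective
        (fun g : {g : ↥M // g ^ p = 1} => (⟨(g.1 : P), by
          have := congrArg Subtype.val g.2
          simpa using this⟩ : {g : P // g ^ p = 1})) ?_) hU
      intro a b hab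
      have h1 := congrArg Subtype.val hab
      exact Subtype.ext (Subtype.ext h1)
    have hcyc : ∀ M : Subgroup P, Nat.card ↥M = p ^ n → IsCyclic ↥M :=
      fun M hM => ih ↥M hM (hU_sub M)
    obtain ⟨M₁, hM₁⟩ := Sylow.exists_subgroup_card_pow_prime p hdvd
    have hlt : p ^ n < p ^ (n + 1) := Nat.pow_lt_pow_right hpp.one_lt (Nat.lt_succ_self n)
    have hM₁ne : M₁ ≠ ⊤ := by
      intro h
      rw [h, Subgroup.card_top, hcard] at hM₁
      omega
    obtain ⟨b, hb⟩ : ∃ b : P, b ∉ M₁ := by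
      by_contra hcon
      apply hM₁ne
      rw [Subgroup.eq_top_iff']
      intro x
      by_contra hx
      exact hcon ⟨x, hx⟩
    have hBne : Subgroup.zpowers b ≠ ⊤ := fun h => hnc (isCyclic_iff_exists_zpowers_eq_top.mpr ⟨b, h⟩)
    obtain ⟨j, hj, hjc⟩ := (Nat.dvd_prime_pow hpp).mp
      (hcard ▸ Subgroup.card_subgroup_dvd_card (Subgroup.zpowers b))
    have hjn : j ≤ n := by
      rcases Nat.lt_or_ge j (n + 1) with h | h
      · omega
      · exfalso
        have hj' : j = n + 1 := le_antisymm hj h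
        apply hBne
        apply Subgroup.eq_top_of_card_eq
        rw [hjc, hj', hcard]
    obtain ⟨M₂, hM₂, hBM₂⟩ := Sylow.exists_subgroup_card_pow_prime_le p hdvd (Subgroup.zpowers b) hjc hjn
    have hbM₂ : b ∈ M₂ := hBM₂ (Subgroup.mem_zpowers b)
    have hidx : ∀ M : Subgroup P, Nat.card ↥M = p ^ n → M.index = p := by
      intro M hM
      have h1 := M.card_mul_index
      rw [hM, hcard, pow_succ] at h1
      exact Nat.eq_of_mul_eq_mul_left (pow_pos hpp.pos n) h1
    have hnorm : ∀ M : Subgroup P, Nat.card ↥M = p ^ n → M.Normal := by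
      intro M hM
      apply Subgroup.normal_of_index_eq_minFac_card
      rw [hidx M hM, hcard, Nat.Prime.pow_minFac hpp (Nat.succ_ne_zero n)]
    have hN₁ := hnorm M₁ hM₁
    have hN₂ := hnorm M₂ hM₂
    have hC₁ := hcyc M₁ hM₁
    have hC₂ := hcyc M₂ hM₂
    -- M₁ ⊔ M₂ = ⊤
    have hsup : M₁ ⊔ M₂ = ⊤ := by
      obtain ⟨i, hi, hic⟩ := (Nat.dvd_prime_pow hpp).mp
        (hcard ▸ Subgroup.card_subgroup_dvd_card (M₁ ⊔ M₂))
      rcases Nat.lt_or_ge i (n + 1) with h | h
      · exfalso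
        have h1 : Nat.card ↥(M₁ ⊔ M₂) ≤ Nat.card ↥M₁ := by
          rw [hic, hM₁]
          exact Nat.pow_le_pow_right hpp.pos (by omega)
        have h2 := Subgroup.eq_of_le_of_card_ge (le_sup_left : M₁ ≤ M₁ ⊔ M₂) h1
        apply hb
        rw [h2]
        exact (le_sup_right : M₂ ≤ M₁ ⊔ M₂) hbM₂
      · apply Subgroup.eq_top_of_card_eq
        rw [hic, hcard, le_antisymm hi h]
    -- D = M₁ ⊓ M₂ is central
    have hDcen : ∀ d ∈ M₁ ⊓ M₂, ∀ z : P, Commute d z := by
      intro d hd z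
      have h1 : M₁ ≤ Subgroup.centralizer ({d} : Set P) := by
        intro m hm
        rw [Subgroup.mem_centralizer_iff]
        intro y hy
        rw [Set.mem_singleton_iff.mp hy]
        have hI : IsMulCommutative ↥M₁ := IsCyclic.isMulCommutative
        exact congrArg Subtype.val (mul_comm' (⟨d, hd.1⟩ : ↥M₁) ⟨m, hm⟩)
      have h2 : M₂ ≤ Subgroup.centralizer ({d} : Set P) := by
        intro m hm
        rw [Subgroup.mem_centralizer_iff]
        intro y hy
        rw [Set.mem_singleton_iff.mp hy]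
        have hI : IsMulCommutative ↥M₂ := IsCyclic.isMulCommutative
        exact congrArg Subtype.val (mul_comm' (⟨d, hd.2⟩ : ↥M₂) ⟨m, hm⟩)
      have h3 : z ∈ Subgroup.centralizer ({d} : Set P) := by
        have : (⊤ : Subgroup P) ≤ Subgroup.centralizer ({d} : Set P) := hsup ▸ sup_le h1 h2
        exact this (Subgroup.mem_top z)
      exact (Subgroup.mem_centralizer_iff.mp h3) d (Set.mem_singleton d)
    -- p-th powers lie in D
    have hpowD : ∀ g : P, g ^ p ∈ M₁ ⊓ M₂ := by
      intro g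
      constructor
      · have := M₁.pow_index_mem g
        rwa [hidx M₁ hM₁] at this
      · have := M₂.pow_index_mem g
        rwa [hidx M₂ hM₂] at this
    -- commutators lie in D
    have hcommM : ∀ M : Subgroup P, Nat.card ↥M = p ^ n → ∀ g h : P, g⁻¹ * h * g * h⁻¹ ∈ M := by
      intro M hM g h
      have hMn := hnorm M hM
      have hq : Nat.card (P ⧸ M) = p := by rw [← Subgroup.index_eq_card, hidx M hM]
      have hqc : IsCyclic (P ⧸ M) := isCyclic_of_prime_card hq
      rw [← QuotientGroup.eq_one_iff]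
      have h1 : (QuotientGroup.mk h : P ⧸ M) * QuotientGroup.mk g = QuotientGroup.mk g * QuotientGroup.mk h :=
        mul_comm' _ _
      simp only [QuotientGroup.mk_mul, QuotientGroup.mk_inv]
      rw [mul_assoc ((QuotientGroup.mk g : P ⧸ M))⁻¹, h1]
      group
    have hcommD : ∀ g h : P, g⁻¹ * h * g * h⁻¹ ∈ M₁ ⊓ M₂ :=
      fun g h => ⟨hcommM M₁ hM₁ g h, hcommM M₂ hM₂ g h⟩
    -- the p-th power map is a homomorphism
    have hmul : ∀ g h : P, (g * h) ^ p = g ^ p * h ^ p := by
      intro g h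
      exact mul_pow_prime_of_central hpp hp2 g h (hDcen _ (hcommD g h)) (hDcen _ (hpowD h))
    let φ : P →* P := { toFun := fun g => g ^ p, map_one' := one_pow p, map_mul' := hmul }
    have hrange : φ.range ≤ M₁ ⊓ M₂ := by
      rintro _ ⟨g, rfl⟩
      exact hpowD g
    have hker : Nat.card ↥φ.ker ≤ p := by
      refine le_trans (le_of_eq ?_) hU
      exact Nat.card_congr (Equiv.subtypeEquivRight (fun g => MonoidHom.mem_ker))
    have hprod : Nat.card ↥φ.ker * Nat.card ↥φ.range = p ^ (n + 1) := by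
      rw [← Subgroup.index_ker, Subgroup.card_mul_index, hcard]
    have hD : p ^ n ≤ Nat.card ↥(M₁ ⊓ M₂ : Subgroup P) := by
      have h1 : Nat.card ↥φ.range ≤ Nat.card ↥(M₁ ⊓ M₂ : Subgroup P) := Subgroup.card_le_of_le hrange
      have h2 : p ^ (n + 1) ≤ p * Nat.card ↥(M₁ ⊓ M₂ : Subgroup P) := by
        rw [← hprod]
        exact Nat.mul_le_mul hker h1
      rw [pow_succ, mul_comm] at h2
      exact Nat.le_of_mul_le_mul_left h2 hpp.pos
    have hDM₁ : M₁ ⊓ M₂ = M₁ := Subgroup.eq_of_le_of_card_ge inf_le_left (by rw [hM₁]; exact hD)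
    have hM₁₂ : M₁ ≤ M₂ := by rw [← hDM₁]; exact inf_le_right
    have hM₁eq : M₁ = M₂ := Subgroup.eq_of_le_of_card_ge hM₁₂ (by rw [hM₁, hM₂])
    exact hb (hM₁eq ▸ hbM₂)

end Cfsg.Agent.Lib.Helper49.RankOne
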