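import Cfsg.Agent.Lib.Helper88.WNStmt

/-! S5141, piece EXTC: a good automorphism of `T` satisfies the extension condition. -/

set_option autoImplicit false

namespace Cfsg.Agent.Lib.Helper49.WNEXTC

open Cfsg Cfsg.FusionSystem Cfsg.Agent.Lib.Helper88.WNStmt

universe u

theorem main : ExtClause.{u} := by
  intro Ω _ S _ F T hTS α hgood
  obtain ⟨ψ, hψ, hψT, hψC⟩ := hgood
  have hle : T ⊔ centralizerIn S T ≤ S := (F.le_of_mem hψ).1
  have hfin : Finite ↥(T ⊔ centralizerIn S T) :=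
    Finite.of_injective _ (Subgroup.inclusion_injective hle)
  have hmap : ∀ y : ↥(T ⊔ centralizerIn S T), ψ y ∈ T ⊔ centralizerIn S T := by
    have h1 : T.subgroupOf (T ⊔ centralizerIn S T) ≤ (T ⊔ centralizerIn S T).comap ψ := by
      intro y hy
      rw [Subgroup.mem_subgroupOf] at hy
      rw [Subgroup.mem_comap]
      have h2 := hψT ⟨y, hy⟩
      have e : Subgroup.inclusion le_sup_left (⟨(y : Ω), hy⟩ : T) = y := Subtype.ext rfl
      rw [e] at h2
      rw [h2]
      exact (le_sup_left : T ≤ T ⊔ centralizerIn S T) (α ⟨y, hy⟩).2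
    have h2 : (centralizerIn S T).subgroupOf (T ⊔ centralizerIn S T)
        ≤ (T ⊔ centralizerIn S T).comap ψ := by
      intro y hy
      rw [Subgroup.mem_subgroupOf] at hy
      rw [Subgroup.mem_comap]
      have h3 := hψC y hy
      have e : ψ y = (y : Ω) * ((y : Ω)⁻¹ * ψ y) := by group
      rw [e]
      exact Subgroup.mul_mem _ y.2 ((le_sup_left : T ≤ T ⊔ centralizerIn S T) h3)
    have h3 : (⊤ : Subgroup ↥(T ⊔ centralizerIn S T)) ≤ (T ⊔ centralizerIn S T).comap ψ := by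
      have h4 : (T ⊔ centralizerIn S T).subgroupOf (T ⊔ centralizerIn S T) = ⊤ :=
        Subgroup.subgroupOf_self _
      rw [← h4, Subgroup.subgroupOf_sup le_sup_left le_sup_right]
      exact sup_le h1 h2
    intro y
    exact h3 (Subgroup.mem_top y)
  have hinj : Function.Injective (ψ.codRestrict (T ⊔ centralizerIn S T) hmap) := by
    intro a b hab
    apply F.injective_of_mem hψ
    exact congrArg Subtype.val hab
  have hbij : Function.Bijective (ψ.codRestrict (T ⊔ centralizerIn S T) hmap) :=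
    ⟨hinj, Finite.injective_iff_surjective.1 hinj⟩
  have hβ : ∀ y, ((MulEquiv.ofBijective (ψ.codRestrict (T ⊔ centralizerIn S T) hmap) hbij y :
      ↥(T ⊔ centralizerIn S T)) : Ω) = ψ y := fun y => rfl
  refine ⟨MulEquiv.ofBijective (ψ.codRestrict (T ⊔ centralizerIn S T) hmap) hbij, ?_, ?_, ?_⟩
  · apply Subgroup.subset_closure
    exact H85.hom_congr F hψ (fun x => rfl)
  · intro x
    rw [hβ]; exact hψT x
  · intro c hc
    rw [hβ]
    refine Subgroup.mem_inf.2 ⟨hψC c hc, ?_⟩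
    rw [Subgroup.mem_centralizer_iff]
    intro t ht
    have hcc : ∀ x ∈ T, x * (c : Ω) = (c : Ω) * x :=
      Subgroup.mem_centralizer_iff.1 (Subgroup.mem_inf.1 hc).2
    have h1 := hψT (α.symm ⟨t, ht⟩)
    have h2 : (T.subtype.comp α.toMonoidHom) (α.symm ⟨t, ht⟩) = t := by
      show ((α (α.symm ⟨t, ht⟩) : T) : Ω) = t
      rw [MulEquiv.apply_symm_apply]
    rw [h2] at h1
    have h3 : c * Subgroup.inclusion le_sup_left (α.symm ⟨t, ht⟩)
        = Subgroup.inclusion le_sup_left (α.symm ⟨t, ht⟩) * c := by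
      apply Subtype.ext
      exact (hcc _ (α.symm ⟨t, ht⟩).2).symm
    have h4 : ψ c * t = t * ψ c := by
      rw [← h1, ← map_mul, ← map_mul, h3]
    have h5 : t * (c : Ω)⁻¹ = (c : Ω)⁻¹ * t := by
      have h6 := hcc t ht
      calc t * (c : Ω)⁻¹ = (c : Ω)⁻¹ * ((c : Ω) * t) * (c : Ω)⁻¹ := by group
        _ = (c : Ω)⁻¹ * (t * (c : Ω)) * (c : Ω)⁻¹ := by rw [h6]
        _ = (c : Ω)⁻¹ * t := by group
    calc t * ((c : Ω)⁻¹ * ψ c) = t * (c : Ω)⁻¹ * ψ c := by group
      _ = (c : Ω)⁻¹ * t * ψ c := by rw [h5]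
      _ = (c : Ω)⁻¹ * (t * ψ c) := by group
      _ = (c : Ω)⁻¹ * (ψ c * t) := by rw [h4]
      _ = (c : Ω)⁻¹ * ψ c * t := by group

end Cfsg.Agent.Lib.Helper49.WNEXTC
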