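import Cfsg.Agent.Lib.Helper88.WNStmt

/-! S5141, piece GS: the maps of `E` that are good on centric sources form a fusion system. -/

set_option autoImplicit false

namespace Cfsg.Agent.Lib.Helper49.WNGS

open Cfsg Cfsg.FusionSystem Cfsg.Agent.Lib.Helper88.WNStmt

universe u

variable {Ω : Type u} [Group Ω] {S T : Subgroup Ω}

theorem centric_of_conj (E : FusionSystem T) {P Q : Subgroup Ω} (hP : E.IsCentric P)
    (h : E.IsConj P Q) : E.IsCentric Q :=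
  ⟨H85.IsConj_le_right E h, fun R hR => hP.2 R (H85.isConj_trans E h hR)⟩

theorem centric_of_le (E : FusionSystem T) {P Q : Subgroup Ω} (hP : E.IsCentric P)
    (hPQ : P ≤ Q) (hQ : Q ≤ T) : E.IsCentric Q := by
  refine ⟨hQ, ?_⟩
  rintro R ⟨χ, hχ, rfl⟩
  have h1 : E.IsConj P (χ.comp (Subgroup.inclusion hPQ)).range :=
    ⟨_, H85.restrict_mem E hχ hPQ, rfl⟩
  have h2 := hP.2 _ h1
  have h3 : (χ.comp (Subgroup.inclusion hPQ)).range ≤ χ.range := by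
    rintro _ ⟨x, rfl⟩
    exact ⟨_, rfl⟩
  intro c hc
  apply h3
  apply h2
  exact ⟨hc.1, Subgroup.centralizer_le (SetLike.coe_subset_coe.2 h3) hc.2⟩

theorem quot_mem_range (E : FusionSystem T) {P : Subgroup Ω} {φ : P →* Ω} (hφ : φ ∈ E.Hom P)
    (hPc : E.IsCentric P) {φh : ↥(P ⊔ centralizerIn S T) →* Ω}
    (hφP : ∀ x : P, φh (Subgroup.inclusion le_sup_left x) = φ x)
    (hφC : ∀ c : ↥(P ⊔ centralizerIn S T), (c : Ω) ∈ centralizerIn S T → (c : Ω)⁻¹ * φh c ∈ T)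
    (c : ↥(P ⊔ centralizerIn S T)) (hc : (c : Ω) ∈ centralizerIn S T) :
    (c : Ω)⁻¹ * φh c ∈ φ.range := by
  have hcen : centralizerIn T φ.range ≤ φ.range := hPc.2 _ ⟨φ, hφ, rfl⟩
  apply hcen
  refine ⟨hφC c hc, ?_⟩
  show (c : Ω)⁻¹ * φh c ∈ Subgroup.centralizer (φ.range : Set Ω)
  rw [Subgroup.mem_centralizer_iff]
  rintro _ ⟨x, rfl⟩
  have hxT : (x : Ω) ∈ T := (E.le_of_mem hφ).1 x.2
  have hyT : φ x ∈ T := (E.le_of_mem hφ).2 x
  have hcc : ∀ t ∈ T, t * (c : Ω) = (c : Ω) * t := Subgroup.mem_centralizer_iff.1 hc.2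
  have h3 : c * Subgroup.inclusion le_sup_left x = Subgroup.inclusion le_sup_left x * c := by
    apply Subtype.ext
    exact (hcc _ hxT).symm
  have h4 : φh c * φ x = φ x * φh c := by
    rw [← hφP x, ← map_mul, ← map_mul, h3]
  have h5 : φ x * (c : Ω)⁻¹ = (c : Ω)⁻¹ * φ x := by
    have h6 := hcc _ hyT
    calc φ x * (c : Ω)⁻¹ = (c : Ω)⁻¹ * ((c : Ω) * φ x) * (c : Ω)⁻¹ := by group
      _ = (c : Ω)⁻¹ * (φ x * (c : Ω)) * (c : Ω)⁻¹ := by rw [h6]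
      _ = (c : Ω)⁻¹ * φ x := by group
  calc φ x * ((c : Ω)⁻¹ * φh c) = φ x * (c : Ω)⁻¹ * φh c := by group
    _ = (c : Ω)⁻¹ * φ x * φh c := by rw [h5]
    _ = (c : Ω)⁻¹ * (φ x * φh c) := by group
    _ = (c : Ω)⁻¹ * (φh c * φ x) := by rw [h4]
    _ = (c : Ω)⁻¹ * φh c * φ x := by group

theorem ext_maps (E : FusionSystem T) {P Q : Subgroup Ω} {φ : P →* Ω} (hφ : φ ∈ E.Hom P)
    (hPc : E.IsCentric P) (hQ : ∀ x : P, φ x ∈ Q) {φh : ↥(P ⊔ centralizerIn S T) →* Ω}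
    (hφP : ∀ x : P, φh (Subgroup.inclusion le_sup_left x) = φ x)
    (hφC : ∀ c : ↥(P ⊔ centralizerIn S T), (c : Ω) ∈ centralizerIn S T → (c : Ω)⁻¹ * φh c ∈ T) :
    ∀ y : ↥(P ⊔ centralizerIn S T), φh y ∈ Q ⊔ centralizerIn S T := by
  have hrange : φ.range ≤ Q := by rintro _ ⟨x, rfl⟩; exact hQ x
  have h1 : P.subgroupOf (P ⊔ centralizerIn S T) ≤ (Q ⊔ centralizerIn S T).comap φh := by
    intro y hy
    rw [Subgroup.mem_subgroupOf] at hy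
    rw [Subgroup.mem_comap]
    have h2 := hφP ⟨y, hy⟩
    have e : Subgroup.inclusion le_sup_left (⟨(y : Ω), hy⟩ : P) = y := Subtype.ext rfl
    rw [e] at h2
    rw [h2]
    exact (le_sup_left : Q ≤ Q ⊔ centralizerIn S T) (hQ _)
  have h2 : (centralizerIn S T).subgroupOf (P ⊔ centralizerIn S T)
      ≤ (Q ⊔ centralizerIn S T).comap φh := by
    intro y hy
    rw [Subgroup.mem_subgroupOf] at hy
    rw [Subgroup.mem_comap]
    have h3 := quot_mem_range E hφ hPc hφP hφC y hy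
    have e : φh y = (y : Ω) * ((y : Ω)⁻¹ * φh y) := by group
    rw [e]
    exact Subgroup.mul_mem _ ((le_sup_right : centralizerIn S T ≤ Q ⊔ centralizerIn S T) hy)
      ((le_sup_left : Q ≤ Q ⊔ centralizerIn S T) (hrange h3))
  have h3 : (⊤ : Subgroup ↥(P ⊔ centralizerIn S T)) ≤ (Q ⊔ centralizerIn S T).comap φh := by
    have h4 : (P ⊔ centralizerIn S T).subgroupOf (P ⊔ centralizerIn S T) = ⊤ :=
      Subgroup.subgroupOf_self _
    rw [← h4, Subgroup.subgroupOf_sup le_sup_left le_sup_right]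
    exact sup_le h1 h2
  intro y
  exact h3 (Subgroup.mem_top y)

theorem conj_good (hTS : T ≤ S) (F : FusionSystem S) {P : Subgroup Ω} {g : Ω} (hP : P ≤ T)
    (hg : g ∈ T) : GoodExt F T (conjHom P g) := by
  have hle : P ⊔ centralizerIn S T ≤ S := sup_le (hP.trans hTS) inf_le_left
  refine ⟨conjHom (P ⊔ centralizerIn S T) g, F.conj_mem hle (hTS hg), fun x => rfl,
    fun c hc => ?_⟩
  show (c : Ω)⁻¹ * (g * (c : Ω) * g⁻¹) ∈ T
  have h1 : g * (c : Ω) = (c : Ω) * g := Subgroup.mem_centralizer_iff.1 hc.2 g hg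
  rw [h1]
  have e : (c : Ω)⁻¹ * ((c : Ω) * g * g⁻¹) = 1 := by group
  rw [e]; exact T.one_mem

theorem comp_good (F : FusionSystem S) (E : FusionSystem T) {P Q : Subgroup Ω} {φ : P →* Ω}
    {ψ : Q →* Ω} (hφ : φ ∈ E.Hom P) (hψ : ψ ∈ E.Hom Q) (hφg : E.IsCentric P → GoodExt F T φ)
    (hψg : E.IsCentric Q → GoodExt F T ψ) (h : ∀ x : P, φ x ∈ Q) (hPc : E.IsCentric P) :
    GoodExt F T (ψ.comp (φ.codRestrict Q h)) := by
  obtain ⟨φh, hφh, hφP, hφC⟩ := hφg hPc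
  have hrange : φ.range ≤ Q := by rintro _ ⟨x, rfl⟩; exact h x
  have hQc : E.IsCentric Q :=
    centric_of_le E (centric_of_conj E hPc ⟨φ, hφ, rfl⟩) hrange (E.le_of_mem hψ).1
  obtain ⟨ψh, hψh, hψQ, hψC⟩ := hψg hQc
  have hmap := ext_maps E hφ hPc h hφP hφC
  refine ⟨ψh.comp (φh.codRestrict _ hmap), F.comp_mem hφh hψh hmap, ?_, ?_⟩
  · intro x
    show ψh ⟨φh (Subgroup.inclusion le_sup_left x), hmap _⟩ = ψ ⟨φ x, h x⟩
    rw [← hψQ ⟨φ x, h x⟩]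
    congr 1
    apply Subtype.ext
    exact hφP x
  · intro c hc
    show (c : Ω)⁻¹ * ψh ⟨φh c, hmap c⟩ ∈ T
    have ht := quot_mem_range E hφ hPc hφP hφC c hc
    have htQ : (c : Ω)⁻¹ * φh c ∈ Q := hrange ht
    have hcQ : (c : Ω) ∈ Q ⊔ centralizerIn S T :=
      (le_sup_right : centralizerIn S T ≤ Q ⊔ centralizerIn S T) hc
    have e : (⟨φh c, hmap c⟩ : ↥(Q ⊔ centralizerIn S T))
        = ⟨(c : Ω), hcQ⟩ * Subgroup.inclusion le_sup_left (⟨(c : Ω)⁻¹ * φh c, htQ⟩ : Q) := by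
      apply Subtype.ext
      show φh c = (c : Ω) * ((c : Ω)⁻¹ * φh c)
      group
    rw [e, map_mul, hψQ]
    have h1 := hψC ⟨(c : Ω), hcQ⟩ hc
    have h2 : ψ ⟨(c : Ω)⁻¹ * φh c, htQ⟩ ∈ T := (E.le_of_mem hψ).2 _
    have e2 : (c : Ω)⁻¹ * (ψh ⟨(c : Ω), hcQ⟩ * ψ ⟨(c : Ω)⁻¹ * φh c, htQ⟩)
        = ((c : Ω)⁻¹ * ψh ⟨(c : Ω), hcQ⟩) * ψ ⟨(c : Ω)⁻¹ * φh c, htQ⟩ := by group
    rw [e2]
    exact T.mul_mem h1 h2

theorem inv_good (F : FusionSystem S) (E : FusionSystem T) {P : Subgroup Ω} {φ : P →* Ω}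
    (hφ : φ ∈ E.Hom P) (hφg : E.IsCentric P → GoodExt F T φ) {ψ : φ.range →* Ω}
    (hψx : ∀ x : P, ψ ⟨φ x, ⟨x, rfl⟩⟩ = (x : Ω)) (hRc : E.IsCentric φ.range) :
    GoodExt F T ψ := by
  have hPc : E.IsCentric P := centric_of_conj E hRc (H85.isConj_symm E ⟨φ, hφ, rfl⟩)
  obtain ⟨φh, hφh, hφP, hφC⟩ := hφg hPc
  have hpre : ∀ c ∈ centralizerIn S T, ∃ w : ↥(P ⊔ centralizerIn S T),
      φh w = c ∧ c⁻¹ * (w : Ω) ∈ T := by
    intro c hc
    have hc' : c ∈ P ⊔ centralizerIn S T :=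
      (le_sup_right : centralizerIn S T ≤ P ⊔ centralizerIn S T) hc
    obtain ⟨s, hs⟩ := quot_mem_range E hφ hPc hφP hφC ⟨c, hc'⟩ hc
    refine ⟨⟨c, hc'⟩ * (Subgroup.inclusion le_sup_left s)⁻¹, ?_, ?_⟩
    · rw [map_mul, map_inv, hφP, hs]
      show φh ⟨c, hc'⟩ * (c⁻¹ * φh ⟨c, hc'⟩)⁻¹ = c
      group
    · show c⁻¹ * (c * (s : Ω)⁻¹) ∈ T
      have e : c⁻¹ * (c * (s : Ω)⁻¹) = (s : Ω)⁻¹ := by group
      rw [e]
      exact T.inv_mem ((E.le_of_mem hφ).1 s.2)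
  have hQ : φ.range ⊔ centralizerIn S T ≤ φh.range := by
    refine sup_le ?_ ?_
    · rintro _ ⟨x, rfl⟩
      exact ⟨_, hφP x⟩
    · intro c hc
      obtain ⟨w, hw, -⟩ := hpre c hc
      exact ⟨w, hw⟩
  obtain ⟨ψ', hψ', hψ'x⟩ := H85.inv_mem' F hφh hQ
  have hψ'' : ∀ (y : ↥(φ.range ⊔ centralizerIn S T)) (x : ↥(P ⊔ centralizerIn S T)),
      φh x = (y : Ω) → ψ' y = (x : Ω) := by
    intro y x hxy
    have hx : φh x ∈ φ.range ⊔ centralizerIn S T := by rw [hxy]; exact y.2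
    have h1 := hψ'x x hx
    have e : (⟨φh x, hx⟩ : ↥(φ.range ⊔ centralizerIn S T)) = y := Subtype.ext hxy
    rw [e] at h1
    exact h1
  refine ⟨ψ', hψ', ?_, ?_⟩
  · rintro ⟨_, x, rfl⟩
    exact (hψ'' _ (Subgroup.inclusion le_sup_left x) (hφP x)).trans (hψx x).symm
  · intro c hc
    obtain ⟨w, hw, hwT⟩ := hpre c hc
    rw [hψ'' c w hw]
    exact hwT

/-- The fusion system of the maps of `E` that are good on centric sources. -/
def goodSys (hTS : T ≤ S) (F : FusionSystem S) (E : FusionSystem T) : FusionSystem T where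
  Hom P := {φ | φ ∈ E.Hom P ∧ (E.IsCentric P → GoodExt F T φ)}
  le_of_mem h := E.le_of_mem h.1
  injective_of_mem h := E.injective_of_mem h.1
  conj_mem := fun hP hg => ⟨E.conj_mem hP hg, fun _ => conj_good hTS F hP hg⟩
  comp_mem := fun hφ hψ h =>
    ⟨E.comp_mem hφ.1 hψ.1 h, fun hPc => comp_good F E hφ.1 hψ.1 hφ.2 hψ.2 h hPc⟩
  inv_mem := by
    intro P φ hφ
    obtain ⟨ψ, hψ, hψx⟩ := E.inv_mem hφ.1
    exact ⟨ψ, ⟨hψ, fun hRc => inv_good F E hφ.1 hφ.2 hψx hRc⟩, hψx⟩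

theorem main : GoodSys.{u} := by
  intro Ω _ S T hTS F E
  exact ⟨goodSys hTS F E, fun P φ => Iff.rfl⟩

end Cfsg.Agent.Lib.Helper49.WNGS
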