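import Cfsg.Agent.Lib.Helper10.SWDefs

/-!
# Sims–Wong, piece C4Z: the facts about `Zs` when no element of order `3` centralizes `Qs`.
-/

set_option autoImplicit false

namespace Cfsg.Agent.Lib.Helper49.SWC4Z

open Pointwise
open Cfsg.Agent.Lib.Helper10.SWDefs

universe u

variable {G : Type u} [Group G]

theorem nrm_of_forall {P N : Subgroup G} (h : ∀ p ∈ P, ∀ x ∈ N, p * x * p⁻¹ ∈ N) : Nrm P N := by
  intro p hp
  ext x
  rw [mem_conj_smul]
  constructor
  · intro hx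
    have h1 := h p hp _ hx
    have e : p * (p⁻¹ * x * p) * p⁻¹ = x := by group
    rwa [e] at h1
  · intro hx
    have h1 := h p⁻¹ (P.inv_mem hp) x hx
    rwa [inv_inv] at h1

theorem nrm_forall {P N : Subgroup G} (h : Nrm P N) : ∀ p ∈ P, ∀ x ∈ N, p * x * p⁻¹ ∈ N := by
  intro p hp x hx
  have h1 := conj_mem_conj_smul (g := p) hx
  rwa [h p hp] at h1

theorem nrm_le_normalizer {P N : Subgroup G} (h : Nrm P N) : P ≤ Subgroup.normalizer (N : Set G) := by
  intro p hp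
  rw [Subgroup.mem_normalizer_iff]
  intro x
  constructor
  · intro hx
    exact nrm_forall h p hp x hx
  · intro hx
    have h1 := nrm_forall h p⁻¹ (P.inv_mem hp) _ hx
    have e : p⁻¹ * (p * x * p⁻¹) * p⁻¹⁻¹ = x := by group
    rwa [e] at h1

theorem nrm_inf_centralizer {P Q : Subgroup G} (h : Nrm P Q) :
    Nrm P (P ⊓ Subgroup.centralizer (Q : Set G)) := by
  apply nrm_of_forall
  intro p hp x hx
  obtain ⟨hxP, hxC⟩ := Subgroup.mem_inf.1 hx
  refine Subgroup.mem_inf.2 ⟨P.mul_mem (P.mul_mem hp hxP) (P.inv_mem hp), ?_⟩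
  rw [Subgroup.mem_centralizer_iff] at hxC ⊢
  intro q hq
  have hq' : p⁻¹ * q * p ∈ Q := by
    have h1 := nrm_forall h p⁻¹ (P.inv_mem hp) q hq
    rwa [inv_inv] at h1
  have h1 := hxC _ hq'
  calc q * (p * x * p⁻¹) = p * (p⁻¹ * q * p * x) * p⁻¹ := by group
    _ = p * (x * (p⁻¹ * q * p)) * p⁻¹ := by rw [h1]
    _ = p * x * p⁻¹ * q := by group

theorem conj_smul_eq_of_comm {d : G} {N : Subgroup G} (h : ∀ z ∈ N, d * z = z * d) :
    MulAut.conj d • N = N := by
  ext x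
  rw [mem_conj_smul]
  constructor
  · intro hx
    have h1 := h _ hx
    have h2 : d⁻¹ * x * d = x := by
      have h3 : d * (d⁻¹ * x * d) = x * d := by group
      rw [h3] at h1
      exact (mul_right_cancel h1).symm
    rwa [h2] at hx
  · intro hx
    have h2 : d⁻¹ * x * d = x := by
      calc d⁻¹ * x * d = d⁻¹ * (x * d) := by group
        _ = d⁻¹ * (d * x) := by rw [h x hx]
        _ = x := by group
    rwa [h2]

/-- (A) `NoD` holds at every point. -/
theorem noD_pt {H : Subgroup G} (hN : NoD H) {P : Subgroup G} (hP : IsPt H P) :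
    ¬ ∃ d ∈ P, orderOf d = 3 ∧ ∀ q ∈ Qs P, d * q = q * d := by
  obtain ⟨g, rfl⟩ := hP
  rintro ⟨d, hd, hd3, hdc⟩
  apply hN
  refine ⟨g⁻¹ * d * g, mem_conj_smul.1 hd, ?_, ?_⟩
  · have h := MulEquiv.orderOf_eq (MulAut.conj g⁻¹) d
    rw [MulAut.conj_apply, inv_inv] at h
    rw [h, hd3]
  · intro q hq
    have hq' : g * q * g⁻¹ ∈ Qs (MulAut.conj g • H) := by
      rw [Qs_conj]; exact conj_mem_conj_smul hq
    have h1 := hdc _ hq'
    calc g⁻¹ * d * g * q = g⁻¹ * (d * (g * q * g⁻¹)) * g := by group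
      _ = g⁻¹ * ((g * q * g⁻¹) * d) * g := by rw [h1]
      _ = q * (g⁻¹ * d * g) := by group

/-- (B) a normal `3'`-subgroup of a point lies in `Qs`. -/
theorem le_Qs_of_nrm [Finite G] {H : Subgroup G} (hB : Base H) {P : Subgroup G} (hP : IsPt H P)
    {N : Subgroup G} (hNP : N ≤ P) (hnrm : Nrm P N) (h3 : ∀ y ∈ N, ¬ 3 ∣ orderOf y) :
    N ≤ Qs P := by
  obtain ⟨k, hk⟩ := hB.card
  have hcard := hk P hP
  have hN2 : IsPGroup 2 N := by
    rintro ⟨y, hy⟩
    have h1 : orderOf y ∣ Nat.card P := by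
      have h0 := orderOf_dvd_natCard (⟨y, hNP hy⟩ : P)
      rwa [Subgroup.orderOf_mk] at h0
    rw [hcard] at h1
    have h2 : Nat.Coprime (orderOf y) 3 := by
      rw [Nat.coprime_comm]
      exact (Nat.Prime.coprime_iff_not_dvd Nat.prime_three).2 (h3 y hy)
    have h4 : orderOf y ∣ 2 ^ k := h2.dvd_of_dvd_mul_left h1
    obtain ⟨j, -, hj⟩ := (Nat.dvd_prime_pow Nat.prime_two).1 h4
    refine ⟨j, ?_⟩
    apply Subtype.ext
    rw [Subgroup.coe_pow, Subgroup.coe_one, Subgroup.coe_mk, ← hj]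
    exact pow_orderOf_eq_one y
  have hN2' : IsPGroup 2 (N.subgroupOf P) := hN2.comap_subtype
  obtain ⟨Q, hQ⟩ := hN2'.exists_le_sylow
  have hS'P : (Q : Subgroup P).map P.subtype ≤ P := Subgroup.map_subtype_le _
  have hNS' : N ≤ (Q : Subgroup P).map P.subtype := by
    intro y hy
    exact ⟨⟨y, hNP hy⟩, hQ (Subgroup.mem_subgroupOf.2 hy), rfl⟩
  have hline : IsLine P ((Q : Subgroup P).map P.subtype) := by
    refine ⟨hS'P, ?_⟩
    have h1 : ((Q : Subgroup P).map P.subtype).subgroupOf P = (Q : Subgroup P) :=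
      Subgroup.comap_map_eq_self_of_injective P.subtype_injective _
    have h2 : ((Q : Subgroup P).map P.subtype).relIndex P = (Q : Subgroup P).index := by
      unfold Subgroup.relIndex
      rw [h1]
    rw [h2]
    have h3 := Subgroup.card_mul_index (Q : Subgroup P)
    have h4 := Sylow.card_eq_multiplicity Q
    rw [hcard] at h3 h4
    have h5 : (3 * 2 ^ k).factorization 2 = k := by
      rw [Nat.factorization_mul (by norm_num) (by positivity),
        Nat.Prime.factorization_pow Nat.prime_two, Nat.prime_three.factorization]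
      simp
    rw [h5] at h4
    rw [h4] at h3
    have h6 : 0 < 2 ^ k := by positivity
    nlinarith [h3, h6]
  intro y hy
  unfold Qs
  rw [Subgroup.mem_sInf]
  intro S hS
  obtain ⟨p, hp, rfl⟩ := hB.line_conj P _ S hP hline hS
  have h1 : y ∈ MulAut.conj p • N := by rw [hnrm p hp]; exact hy
  exact Subgroup.pointwise_smul_le_pointwise_smul_iff.2 hNS' h1

/-- (C) `C_P(Qs P) ≤ Qs P`. -/
theorem cq_aux [Finite G] {H : Subgroup G} (hB : Base H) (hN : NoD H) {P : Subgroup G}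
    (hP : IsPt H P) : ∀ x ∈ P, (∀ q ∈ Qs P, x * q = q * x) → x ∈ Qs P := by
  intro x hx hxc
  have hnrm : Nrm P (P ⊓ Subgroup.centralizer (Qs P : Set G)) :=
    nrm_inf_centralizer (hB.q_nrm P hP)
  have h3 : ∀ y ∈ P ⊓ Subgroup.centralizer (Qs P : Set G), ¬ 3 ∣ orderOf y := by
    intro y hy hdvd
    obtain ⟨hyP, hyC⟩ := Subgroup.mem_inf.1 hy
    rw [Subgroup.mem_centralizer_iff] at hyC
    apply noD_pt hN hP
    refine ⟨y ^ (orderOf y / 3), P.pow_mem hyP _, ?_, ?_⟩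
    · exact orderOf_pow_orderOf_div (orderOf_pos y).ne' hdvd
    · intro q hq
      exact ((show Commute q y from hyC q hq).pow_right _).eq.symm
  apply le_Qs_of_nrm hB hP inf_le_left hnrm h3
  refine Subgroup.mem_inf.2 ⟨hx, ?_⟩
  rw [Subgroup.mem_centralizer_iff]
  intro q hq
  exact (hxc q hq).symm

/-- (D) `Zs P ≤ Ω₁ Z(Qs P)`. -/
theorem Zs_le_OZ {P : Subgroup G} (cq : ∀ x ∈ P, (∀ q ∈ Qs P, x * q = q * x) → x ∈ Qs P) :
    Zs P ≤ OZ (Qs P) := by
  unfold Zs
  refine iSup₂_le fun S hS => ?_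
  rintro z ⟨hzS, hz2, hzc⟩
  refine ⟨cq z (hS.1 hzS) (fun q hq => (hzc q (Qs_le_line hS hq)).symm), hz2, ?_⟩
  intro s hs
  exact hzc s (Qs_le_line hS hs)

/-- (E) `P` normalizes `Zs P`. -/
theorem z_nrm_aux (P : Subgroup G) : Nrm P (Zs P) := by
  intro p hp
  rw [← Zs_conj, Subgroup.conj_smul_eq_self_of_mem hp]

/-- (F) `Ω₁ Z(L) ≠ 1` for a line `L`. -/
theorem OZ_ne_bot [Finite G] {H : Subgroup G} (hB : Base H) {P L : Subgroup G} (hP : IsPt H P)
    (hL : IsLine P L) : OZ L ≠ ⊥ := by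
  have hL2 : IsPGroup 2 L := hB.line_two P L hP hL
  have hLne : L ≠ ⊥ := by
    intro h
    have h1 := hB.q_index P L hP hL
    rw [h, Subgroup.relIndex_bot_right] at h1
    exact absurd h1 (by norm_num)
  have : Nontrivial L := (Subgroup.nontrivial_iff_ne_bot L).2 hLne
  have : Fact (Nat.Prime 2) := ⟨Nat.prime_two⟩
  have hc : Nontrivial (Subgroup.center L) := hL2.center_nontrivial
  obtain ⟨⟨z, hzc⟩, hz1⟩ := exists_ne (1 : Subgroup.center L)
  have hz1' : z ≠ 1 := fun h => hz1 (Subtype.ext h)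
  obtain ⟨j, hj⟩ := (IsPGroup.iff_orderOf.1 hL2) z
  have hj0 : j ≠ 0 := by
    rintro rfl
    rw [pow_zero, orderOf_eq_one_iff] at hj
    exact hz1' hj
  have h2 : (2 : ℕ) ∣ orderOf z := by rw [hj]; exact dvd_pow_self 2 hj0
  have hw2 : orderOf (z ^ (orderOf z / 2)) = 2 :=
    orderOf_pow_orderOf_div (orderOf_pos z).ne' h2
  have hwc : z ^ (orderOf z / 2) ∈ Subgroup.center L := (Subgroup.center L).pow_mem hzc _
  generalize z ^ (orderOf z / 2) = w at hw2 hwc
  intro hbot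
  have hw : (w : G) ∈ OZ L := by
    refine ⟨w.2, ?_, ?_⟩
    · have h3 : w ^ 2 = 1 := by rw [← hw2]; exact pow_orderOf_eq_one w
      have h4 : ((w ^ 2 : L) : G) = 1 := by rw [h3]; rfl
      rw [Subgroup.coe_pow, pow_two] at h4
      exact h4
    · intro s hs
      have h3 := (Subgroup.mem_center_iff.1 hwc) ⟨s, hs⟩
      have h4 := congrArg (Subtype.val) h3
      exact h4
  rw [hbot, Subgroup.mem_bot] at hw
  have hw1 : w = 1 := Subtype.ext hw
  rw [hw1, orderOf_one] at hw2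
  exact absurd hw2 (by norm_num)

/-- Key step for (H). -/
theorem key_norm [Finite G] {H : Subgroup G} (hB : Base H) {P L : Subgroup G} (hP : IsPt H P)
    (hL : IsLine P L) {d : G} (hd : d ∈ P) (hd3 : orderOf d = 3)
    (hdc : ∀ z ∈ OZ L, d * z = z * d) : P ≤ Subgroup.normalizer (OZ L : Set G) := by
  have hL2 : IsPGroup 2 L := hB.line_two P L hP hL
  have hdL : d ∉ L := by
    intro hdL
    obtain ⟨j, hj⟩ := (IsPGroup.iff_orderOf.1 hL2) ⟨d, hdL⟩
    rw [Subgroup.orderOf_mk, hd3] at hj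
    rcases j with _ | j
    · norm_num at hj
    · have h2 : 2 ∣ 3 := by rw [hj]; exact dvd_pow_self 2 (Nat.succ_ne_zero j)
      omega
  have hdP : MulAut.conj d • P = P := Subgroup.conj_smul_eq_self_of_mem hd
  have hL' : IsLine P (MulAut.conj d • L) := by
    have h1 := isLine_conj d hL
    rwa [hdP] at h1
  have hne : L ≠ MulAut.conj d • L := by
    intro h
    exact hdL (hB.line_self_norm P L hP hL d hd h.symm)
  have hsup : L ⊔ MulAut.conj d • L = P := hB.line_sup P L _ hP hL hL' hne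
  have hcen : ∀ K : Subgroup G, Nrm K (OZ K) := by
    intro K
    apply nrm_of_forall
    intro p hp x hx
    obtain ⟨hx1, hx2, hxc⟩ := hx
    have h1 : p * x * p⁻¹ = x := by rw [hxc p hp, mul_inv_cancel_right]
    rw [h1]; exact ⟨hx1, hx2, hxc⟩
  have hN1 : Nrm L (OZ L) := hcen L
  have hN2 : Nrm (MulAut.conj d • L) (OZ L) := by
    have h1 := hcen (MulAut.conj d • L)
    rwa [OZ_conj, conj_smul_eq_of_comm hdc] at h1
  rw [← hsup]
  exact sup_le (nrm_le_normalizer hN1) (nrm_le_normalizer hN2)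

/-- (H), core: no element of order `3` of `P` centralizes `Zs P`. -/
theorem no_d_Zs [Finite G] {H : Subgroup G} (hB : Base H) {P : Subgroup G} (hP : IsPt H P)
    {d : G} (hdP : d ∈ P) (hd3 : orderOf d = 3) (hdc : ∀ z ∈ Zs P, d * z = z * d) : False := by
  obtain ⟨P', hP', hadj⟩ := hB.ex_adj P hP
  have hL : IsLine P (P ⊓ P') := hB.adj_line P P' hP hP' hadj
  have hL' : IsLine P' (P ⊓ P') := by
    have h1 := hB.adj_line P' P hP' hP (hB.adj_symm P P' hP hP' hadj)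
    rwa [inf_comm] at h1
  have hn1 : P ≤ Subgroup.normalizer (OZ (P ⊓ P') : Set G) :=
    key_norm hB hP hL hdP hd3 (fun z hz => hdc z (OZ_le_Zs hL hz))
  obtain ⟨g, hg⟩ := isPt_trans hP hP'
  have hn2 : P' ≤ Subgroup.normalizer (OZ (P ⊓ P') : Set G) := by
    refine key_norm hB hP' hL' (d := g * d * g⁻¹) ?_ ?_ ?_
    · rw [hg]; exact conj_mem_conj_smul hdP
    · have h := MulEquiv.orderOf_eq (MulAut.conj g) d
      rw [MulAut.conj_apply] at h
      rw [h, hd3]
    · intro z hz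
      have hz' : z ∈ Zs P' := OZ_le_Zs hL' hz
      rw [hg, Zs_conj, mem_conj_smul] at hz'
      have h1 := hdc _ hz'
      calc g * d * g⁻¹ * z = g * (d * (g⁻¹ * z * g)) * g⁻¹ := by group
        _ = g * ((g⁻¹ * z * g) * d) * g⁻¹ := by rw [h1]
        _ = z * (g * d * g⁻¹) := by group
  have htop : Subgroup.normalizer (OZ (P ⊓ P') : Set G) = ⊤ := by
    rw [eq_top_iff, ← hB.gen P P' hP hP' hadj.1]
    exact sup_le hn1 hn2
  have hnormal : (OZ (P ⊓ P')).Normal := Subgroup.normalizer_eq_top_iff.1 htop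
  have hle : OZ (P ⊓ P') ≤ P := by
    rintro z ⟨hz1, -, -⟩
    exact (Subgroup.mem_inf.1 hz1).1
  exact OZ_ne_bot hB hP hL (hB.core P _ hP hle hnormal)

/-- (H) `C_P(Zs P) ≤ Qs P`. -/
theorem cz_aux [Finite G] {H : Subgroup G} (hB : Base H) {P : Subgroup G} (hP : IsPt H P) :
    ∀ x ∈ P, (∀ z ∈ Zs P, x * z = z * x) → x ∈ Qs P := by
  intro x hx hxc
  have hnrm : Nrm P (P ⊓ Subgroup.centralizer (Zs P : Set G)) :=
    nrm_inf_centralizer (z_nrm_aux P)
  have h3 : ∀ y ∈ P ⊓ Subgroup.centralizer (Zs P : Set G), ¬ 3 ∣ orderOf y := by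
    intro y hy hdvd
    obtain ⟨hyP, hyC⟩ := Subgroup.mem_inf.1 hy
    rw [Subgroup.mem_centralizer_iff] at hyC
    exact no_d_Zs hB hP (P.pow_mem hyP (orderOf y / 3))
      (orderOf_pow_orderOf_div (orderOf_pos y).ne' hdvd)
      (fun z hz => ((show Commute z y from hyC z hz).pow_right _).eq.symm)
  apply le_Qs_of_nrm hB hP inf_le_left hnrm h3
  refine Subgroup.mem_inf.2 ⟨hx, ?_⟩
  rw [Subgroup.mem_centralizer_iff]
  intro z hz
  exact (hxc z hz).symm

/-- (I) the commutator-like element `z * (s z s⁻¹)` is in `Ω₁ Z(S)`. -/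
theorem z_line_aux [Finite G] {H : Subgroup G} (hB : Base H) {P S : Subgroup G} (hP : IsPt H P)
    (hS : IsLine P S)
    (z_le : Zs P ≤ Qs P) (z_cent : ∀ z ∈ Zs P, ∀ q ∈ Qs P, q * z = z * q)
    (z_sq : ∀ z ∈ Zs P, z * z = 1) :
    ∀ z ∈ Zs P, ∀ s ∈ S, z * (s * z * s⁻¹) ∈ OZ S := by
  intro z hz s hs
  have hz' : s * z * s⁻¹ ∈ Zs P := nrm_forall (z_nrm_aux P) s (hS.1 hs) z hz
  have hw : z * (s * z * s⁻¹) ∈ Zs P := (Zs P).mul_mem hz hz'
  by_cases hsQ : s ∈ Qs P
  · have hc := z_cent z hz s hsQ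
    have h1 : z * (s * z * s⁻¹) = 1 := by
      rw [hc, mul_inv_cancel_right]; exact z_sq z hz
    rw [h1]; exact (OZ S).one_mem
  · refine ⟨Qs_le_line hS (z_le hw), z_sq _ hw, ?_⟩
    have hidx : ((Qs P).subgroupOf S).index = 2 := hB.q_index P S hP hS
    have hss : s * s ∈ Qs P := by
      have h1 := Subgroup.mul_mem_iff_of_index_two hidx (a := (⟨s, hs⟩ : S)) (b := ⟨s, hs⟩)
      have h2 : (⟨s, hs⟩ : S) * ⟨s, hs⟩ ∈ (Qs P).subgroupOf S := h1.2 Iff.rfl
      exact Subgroup.mem_subgroupOf.1 h2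
    have hcomm : z * (s * z * s⁻¹) = (s * z * s⁻¹) * z := (z_cent z hz _ (z_le hz')).symm
    have hsw : s * (z * (s * z * s⁻¹)) = z * (s * z * s⁻¹) * s := by
      have h3 := z_cent z hz _ hss
      calc s * (z * (s * z * s⁻¹)) = (s * z * s⁻¹) * (s * s * z) * s⁻¹ := by group
        _ = (s * z * s⁻¹) * (z * (s * s)) * s⁻¹ := by rw [h3]
        _ = (s * z * s⁻¹) * z * s := by group
        _ = z * (s * z * s⁻¹) * s := by rw [← hcomm]
    intro t ht
    by_cases htQ : t ∈ Qs P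
    · exact z_cent _ hw t htQ
    · have hq : s⁻¹ * t ∈ Qs P := by
        have h1 := Subgroup.mul_mem_iff_of_index_two hidx (a := (⟨s, hs⟩ : S)⁻¹) (b := ⟨t, ht⟩)
        have h2 : (⟨s, hs⟩ : S)⁻¹ * ⟨t, ht⟩ ∈ (Qs P).subgroupOf S := by
          rw [h1]
          constructor
          · intro h
            exfalso
            apply hsQ
            have h5 := Subgroup.inv_mem _ h
            rw [inv_inv] at h5
            exact Subgroup.mem_subgroupOf.1 h5
          · intro h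
            exact absurd (Subgroup.mem_subgroupOf.1 h) htQ
        exact Subgroup.mem_subgroupOf.1 h2
      have h4 := z_cent _ hw _ hq
      calc t * (z * (s * z * s⁻¹)) = s * (s⁻¹ * t * (z * (s * z * s⁻¹))) := by group
        _ = s * ((z * (s * z * s⁻¹)) * (s⁻¹ * t)) := by rw [h4]
        _ = s * (z * (s * z * s⁻¹)) * (s⁻¹ * t) := by group
        _ = z * (s * z * s⁻¹) * s * (s⁻¹ * t) := by rw [hsw]
        _ = z * (s * z * s⁻¹) * t := by group

theorem main : StC4Z.{u} := by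
  intro G _ _ H hB _ hN
  have cq : ∀ P : Subgroup G, IsPt H P → ∀ x ∈ P, (∀ q ∈ Qs P, x * q = q * x) → x ∈ Qs P :=
    fun P hP => cq_aux hB hN hP
  have zle : ∀ P : Subgroup G, IsPt H P → Zs P ≤ OZ (Qs P) := fun P hP => Zs_le_OZ (cq P hP)
  have z_le : ∀ P : Subgroup G, IsPt H P → Zs P ≤ Qs P := by
    intro P hP z hz
    obtain ⟨h1, -, -⟩ := zle P hP hz
    exact h1
  have z_cent : ∀ P : Subgroup G, IsPt H P → ∀ z ∈ Zs P, ∀ q ∈ Qs P, q * z = z * q := by
    intro P hP z hz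
    obtain ⟨-, -, h1⟩ := zle P hP hz
    exact h1
  have z_sq : ∀ P : Subgroup G, IsPt H P → ∀ z ∈ Zs P, z * z = 1 := by
    intro P hP z hz
    obtain ⟨-, h1, -⟩ := zle P hP hz
    exact h1
  refine ⟨cq, z_le, z_cent, z_sq, fun P _ => z_nrm_aux P, fun P hP => cz_aux hB hP, ?_, ?_⟩
  · intro P S hP hS
    exact z_line_aux hB hP hS (z_le P hP) (z_cent P hP) (z_sq P hP)
  · intro P hP hbot
    obtain ⟨S₁, S₂, S₃, -, -, -, h⟩ := hB.three P hP
    have hS : IsLine P S₁ := (h S₁).2 (Or.inl rfl)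
    apply OZ_ne_bot hB hP hS
    rw [eq_bot_iff, ← hbot]
    exact OZ_le_Zs hS

end Cfsg.Agent.Lib.Helper49.SWC4Z
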