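import Mathlib
import Cfsg.Agent.Lib.Helper24.ConjAction

set_option autoImplicit false
set_option linter.unusedSectionVars false
set_option linter.unusedVariables false

/-!
Coprime action on an abelian group of exponent `p`: `V = C_V(Q) × [V, Q]` for a group `Q` of
order prime to `p` normalizing `V`.
-/

namespace Cfsg.Agent.Lib.Helper49.CoprimeDecomp

open Cfsg.Agent.Lib.Helper24.ConjAction

open scoped commutatorElement

variable {G : Type*} [Group G]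

theorem coprime_decomp [Finite G] {p : ℕ} [Fact p.Prime] {V Q : Subgroup G}
    (hVab : ∀ a ∈ V, ∀ b ∈ V, a * b = b * a) (hVp : ∀ a ∈ V, a ^ p = 1)
    (hQV : Q ≤ Subgroup.normalizer (V : Set G)) (hQ : (Nat.card Q).Coprime p) :
    (V ⊓ Subgroup.centralizer (Q : Set G)) ⊓ ⁅V, Q⁆ = ⊥ ∧
      ∀ v ∈ V, ∃ u ∈ V ⊓ Subgroup.centralizer (Q : Set G), ∃ m ∈ ⁅V, Q⁆, v = u * m := by
  classical
  have hp : p.Prime := Fact.out
  let _ : CommGroup ↥V :=
    { (inferInstance : Group ↥V) with mul_comm := fun a b => Subtype.ext (hVab a a.2 b b.2) }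
  have : Fintype ↥Q := Fintype.ofFinite _
  let ρ : ↥Q →* MulAut ↥V := conjHom Q V hQV
  have hρ : ∀ (g : ↥Q) (w : ↥V), ((ρ g w : ↥V) : G) = g * w * (g : G)⁻¹ := fun g w => rfl
  let τ : ↥V →* ↥V :=
    { toFun := fun v => ∏ q : ↥Q, ρ q v
      map_one' := by simp
      map_mul' := fun a b => by simp [Finset.prod_mul_distrib] }
  have hτ : ∀ v : ↥V, τ v = ∏ q : ↥Q, ρ q v := fun v => rfl
  have hn : Fintype.card ↥Q = Nat.card Q := (Nat.card_eq_fintype_card).symm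
  obtain ⟨m, -, hm⟩ := Nat.exists_mul_mod_eq_one_of_coprime hQ hp.one_lt
  have hpow : ∀ v : ↥V, v ^ (Nat.card Q * m) = v := by
    intro v
    have h1 : v ^ p = 1 := Subtype.ext (by simpa using hVp v v.2)
    rw [pow_eq_pow_mod _ h1, hm, pow_one]
  -- `τ v` is fixed by `Q`
  have hfix : ∀ (v : ↥V), ((τ v : ↥V) : G) ∈ Subgroup.centralizer (Q : Set G) := by
    intro v
    rw [Subgroup.mem_centralizer_iff]
    intro g hg
    have h1 : ρ ⟨g, hg⟩ (τ v) = τ v := by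
      rw [hτ, map_prod]
      have h2 : ∀ q : ↥Q, ρ ⟨g, hg⟩ (ρ q v) = ρ (⟨g, hg⟩ * q) v := fun q => by
        rw [map_mul]; rfl
      simp only [h2]
      exact Fintype.prod_equiv (Equiv.mulLeft (⟨g, hg⟩ : ↥Q)) _ _ (fun q => rfl)
    have h3 := congrArg Subtype.val h1
    rw [hρ] at h3
    have h4 : g * ((τ v : ↥V) : G) * g⁻¹ = ((τ v : ↥V) : G) := h3
    calc g * ((τ v : ↥V) : G) = (g * ((τ v : ↥V) : G) * g⁻¹) * g := by group
      _ = ((τ v : ↥V) : G) * g := by rw [h4]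
  -- `v ^ n = τ v * (element of [V, Q])`
  have hcomm : ∀ (v : ↥V), ∃ c : ↥V, (c : G) ∈ ⁅V, Q⁆ ∧ v ^ Nat.card Q = τ v * c := by
    intro v
    refine ⟨∏ q : ↥Q, (v * (ρ q v)⁻¹), ?_, ?_⟩
    · have h1 : (∏ q : ↥Q, (v * (ρ q v)⁻¹)) ∈ (⁅V, Q⁆).subgroupOf V := by
        apply Subgroup.prod_mem
        intro q _
        rw [Subgroup.mem_subgroupOf]
        have h2 : ((v * (ρ q v)⁻¹ : ↥V) : G) = ⁅(v : G), (q : G)⁆ := by
          rw [Subgroup.coe_mul, Subgroup.coe_inv, hρ, commutatorElement_def]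
          group
        rw [h2]
        exact Subgroup.commutator_mem_commutator v.2 q.2
      exact Subgroup.mem_subgroupOf.mp h1
    · rw [Finset.prod_mul_distrib, Finset.prod_inv_distrib, Finset.prod_const, Finset.card_univ,
        hn, ← hτ]
      rw [mul_comm (v ^ Nat.card Q), mul_inv_cancel_left]
  -- `τ` kills `[V, Q]`
  have hker : ⁅V, Q⁆ ≤ (τ.ker).map V.subtype := by
    rw [Subgroup.commutator_le]
    intro v hv q hq
    refine ⟨(⟨v, hv⟩ : ↥V) * (ρ ⟨q, hq⟩ ⟨v, hv⟩)⁻¹, ?_, ?_⟩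
    · rw [SetLike.mem_coe, MonoidHom.mem_ker, map_mul, map_inv]
      have h1 : τ (ρ ⟨q, hq⟩ ⟨v, hv⟩) = τ ⟨v, hv⟩ := by
        rw [hτ, hτ]
        have h2 : ∀ g : ↥Q, ρ g (ρ ⟨q, hq⟩ ⟨v, hv⟩) = ρ (g * ⟨q, hq⟩) ⟨v, hv⟩ := fun g => by
          rw [map_mul]; rfl
        simp only [h2]
        exact Fintype.prod_equiv (Equiv.mulRight (⟨q, hq⟩ : ↥Q)) _ _ (fun g => rfl)
      rw [h1, mul_inv_cancel]
    · show ((⟨v, hv⟩ : ↥V) * (ρ ⟨q, hq⟩ ⟨v, hv⟩)⁻¹ : ↥V).1 = ⁅v, q⁆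
      rw [Subgroup.coe_mul, Subgroup.coe_inv, hρ, commutatorElement_def]
      group
  constructor
  · rw [eq_bot_iff]
    intro x hx
    obtain ⟨hx1, hx2⟩ := Subgroup.mem_inf.mp hx
    obtain ⟨hxV, hxC⟩ := Subgroup.mem_inf.mp hx1
    obtain ⟨x', hx', hxx⟩ := hker hx2
    have hx'1 : τ x' = 1 := MonoidHom.mem_ker.mp hx'
    have hx'2 : τ x' = x' ^ Nat.card Q := by
      rw [hτ]
      have h1 : ∀ q : ↥Q, ρ q x' = x' := by
        intro q
        apply Subtype.ext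
        rw [hρ]
        have h2 : (x' : G) = x := hxx
        rw [h2]
        have h3 := (Subgroup.mem_centralizer_iff.mp hxC) q q.2
        rw [h3]
        group
      simp only [h1]
      rw [Finset.prod_const, Finset.card_univ, hn]
    have h5 : x' = 1 := by
      rw [← hpow x', pow_mul, ← hx'2, hx'1, one_pow]
    rw [Subgroup.mem_bot, ← hxx, h5]
    rfl
  · intro v hv
    obtain ⟨c, hc, hvc⟩ := hcomm ⟨v, hv⟩
    refine ⟨((τ ⟨v, hv⟩ ^ m : ↥V) : G), ?_, ((c ^ m : ↥V) : G), ?_, ?_⟩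
    · refine Subgroup.mem_inf.mpr ⟨(τ ⟨v, hv⟩ ^ m : ↥V).2, ?_⟩
      rw [Subgroup.coe_pow]
      exact pow_mem (hfix _) m
    · rw [Subgroup.coe_pow]
      exact pow_mem hc m
    · have h1 : (⟨v, hv⟩ : ↥V) = τ ⟨v, hv⟩ ^ m * c ^ m := by
        rw [← mul_pow, ← hvc, ← pow_mul, hpow]
      exact congrArg Subtype.val h1

end Cfsg.Agent.Lib.Helper49.CoprimeDecomp
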