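import Mathlib
import Cfsg.Prelude.Def_PLocal
import Cfsg.Agent.Lib.Helper11.QuadSolv
import Cfsg.Agent.Lib.Helper76.PSolv
import Cfsg.Agent.Lib.Helper11.PConstr

/-! Passing from a normal elementary abelian subgroup `V` of `G` to a faithful action: inside
`Equiv.Perm V` the left regular copy of `V` is normalized by the image of `G` under conjugation,
and that image meets the centralizer of the copy trivially. Also the dual of the Hall-Higman
centralizer lemma (trivial `p`-core, centralizer of the `p'`-core). -/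

set_option autoImplicit false

namespace Cfsg.Agent.Lib.Helper49.Faithful

open Cfsg.Agent.Lib.Helper11.QuadSolv

/-- Dual Hall-Higman lemma: in a finite group with a `p`-chain and trivial `p`-core, the
centralizer of the `p'`-core lies in the `p'`-core. -/
theorem centralizer_pPrimeCore_le {L : Type*} [Group L] [Finite L] (p : ℕ) [hp : Fact p.Prime]
    (hc : PChain p L) (hO : Cfsg.pCore p L = ⊥) :
    Subgroup.centralizer (Cfsg.pPrimeCore p L : Set L) ≤ Cfsg.pPrimeCore p L := by
  obtain ⟨n, K, h0, hn, hnorm, hstep⟩ := hc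
  set U := Cfsg.pPrimeCore p L with hU
  have hUn : U.Normal := (Cfsg.Agent.Lib.Helper76.PSolv.pPrimeCore_mem p).1
  have hUc : (Nat.card U).Coprime p := (Cfsg.Agent.Lib.Helper76.PSolv.pPrimeCore_mem p).2
  set C := Subgroup.centralizer (U : Set L) with hC
  have hCn : C.Normal := Subgroup.normal_centralizer
  have key : ∀ i : ℕ, C ⊓ K i ≤ U := by
    intro i
    induction i with
    | zero => rw [h0]; simp
    | succ i ih =>
      obtain ⟨r, hr, hpow⟩ := hstep i
      have hKn := hnorm (i + 1)
      set D := C ⊓ K (i + 1) with hD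
      have hDn : D.Normal := Subgroup.normal_inf_normal C (K (i + 1))
      have hDpow : ∀ x ∈ D, x ^ r ∈ U := fun x hx =>
        ih (Subgroup.mem_inf.mpr ⟨C.pow_mem (Subgroup.mem_inf.mp hx).1 r,
          hpow x (Subgroup.mem_inf.mp hx).2⟩)
      suffices hcop : (Nat.card D).Coprime p from
        Cfsg.Agent.Lib.Helper76.PSolv.le_pPrimeCore hDn hcop
      rcases hr with ⟨m, rfl⟩ | hrc
      · have hnil : Group.IsNilpotent D := by
          have : Group.IsNilpotent (↥D ⧸ Subgroup.center ↥D) := by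
            apply IsPGroup.isNilpotent (p := p)
            intro x
            obtain ⟨d, rfl⟩ := QuotientGroup.mk'_surjective _ x
            refine ⟨m, ?_⟩
            rw [← map_pow]
            apply (QuotientGroup.eq_one_iff _).mpr
            rw [Subgroup.mem_center_iff]
            intro e
            apply Subtype.ext
            have h1 := Subgroup.mem_centralizer_iff.mp (Subgroup.mem_inf.mp e.2).1 _
              (hDpow d d.2)
            simpa using h1.symm
          exact Subgroup.isNilpotent_of_ker_le_center (QuotientGroup.mk' (Subgroup.center ↥D))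
            (by rw [QuotientGroup.ker_mk'])
        obtain ⟨P⟩ := (inferInstance : Nonempty (Sylow p D))
        have htfae : Group.IsNilpotent D ↔ ∀ (q : ℕ) (_ : Fact q.Prime) (Q : Sylow q D),
            (Q : Subgroup D).Normal := (Group.isNilpotent_of_finite_tfae (G := D)).out 0 3
        have hPn : (P : Subgroup D).Normal := htfae.mp hnil p hp P
        have hPc : (P : Subgroup D).Characteristic := Sylow.characteristic_of_normal P hPn
        have hP₁n : ((P : Subgroup D).map D.subtype).Normal :=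
          ConjAct.normal_of_characteristic_of_normal
        have hP₁p : IsPGroup p ((P : Subgroup D).map D.subtype) := P.isPGroup'.map _
        have hP₁ : (P : Subgroup D).map D.subtype ≤ Cfsg.pCore p L := le_sSup ⟨hP₁n, hP₁p⟩
        rw [hO] at hP₁
        have hPbot : (P : Subgroup D) = ⊥ :=
          (Subgroup.map_eq_bot_iff_of_injective _ D.subtype_injective).mp (le_bot_iff.mp hP₁)
        have hnd : ¬ p ∣ Nat.card D := by
          have := P.not_dvd_index
          rwa [hPbot, Subgroup.index_bot] at this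
        exact ((Nat.Prime.coprime_iff_not_dvd hp.out).mpr hnd).symm
      · rw [Nat.coprime_comm, Nat.Prime.coprime_iff_not_dvd hp.out]
        intro hdvd
        obtain ⟨x, hx⟩ := exists_prime_orderOf_dvd_card' p hdvd
        have h1 : ((x : L) ^ r) ^ Nat.card U = 1 := by
          have h2 := pow_card_eq_one' (G := U) (x := ⟨(x : L) ^ r, hDpow x x.2⟩)
          have h3 := congrArg Subtype.val h2
          simp only [SubmonoidClass.coe_pow, OneMemClass.coe_one] at h3
          exact h3
        have h2 : orderOf (x : L) ∣ r * Nat.card U :=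
          orderOf_dvd_of_pow_eq_one (by rw [pow_mul]; exact h1)
        rw [Subgroup.orderOf_coe, hx] at h2
        exact hp.out.one_lt.ne' ((Nat.Coprime.mul_left hrc hUc).symm.eq_one_of_dvd h2)
  have := key n
  rwa [hn, inf_top_eq] at this

section Perm

variable {G : Type*} [Group G] (V : Subgroup G) [V.Normal]

/-- The left regular representation of `V`. -/
def lam : ↥V →* Equiv.Perm ↥V := MulAction.toPermHom ↥V ↥V

/-- The conjugation action of `G` on `V`, as permutations of `V`. -/
def rho : G →* Equiv.Perm ↥V := (MulAut.toPerm ↥V).comp MulAut.conjNormal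

theorem lam_apply (v w : V) : lam V v w = v * w := rfl

theorem rho_apply (g : G) (w : V) : rho V g w = MulAut.conjNormal g w := rfl

theorem rho_apply_coe (g : G) (w : V) : ((rho V g w : V) : G) = g * w * g⁻¹ := rfl

theorem lam_injective : Function.Injective (lam V) := by
  intro v w h
  have := congrArg (fun σ : Equiv.Perm V => σ 1) h
  simpa [lam_apply] using this

theorem rho_lam (g : G) (v : V) :
    rho V g * lam V v * (rho V g)⁻¹ = lam V (MulAut.conjNormal g v) := by
  ext w
  rw [← map_inv]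
  simp only [Equiv.Perm.coe_mul, Function.comp_apply, lam_apply, rho_apply_coe, Subgroup.coe_mul,
    MulAut.conjNormal_apply]
  group

theorem mem_ker_rho (g : G) : rho V g = 1 ↔ g ∈ Subgroup.centralizer (V : Set G) := by
  rw [Subgroup.mem_centralizer_iff]
  constructor
  · intro h v hv
    have h1 := congrArg (fun σ : Equiv.Perm V => ((σ ⟨v, hv⟩ : V) : G)) h
    simp only [rho_apply_coe, Equiv.Perm.coe_one, id_eq] at h1
    calc v * g = g * v * g⁻¹ * g := by rw [h1]
      _ = g * v := by group
  · intro h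
    ext w
    rw [rho_apply_coe, Equiv.Perm.coe_one, id_eq, ← h w w.2]
    simp

theorem ker_rho : (rho V).ker = Subgroup.centralizer (V : Set G) := by
  ext g
  rw [MonoidHom.mem_ker, mem_ker_rho]

theorem rho_comm_lam_iff (g : G) (v : V) :
    rho V g * lam V v = lam V v * rho V g ↔ g * (v : G) = v * g := by
  have h1 : rho V g * lam V v = lam V v * rho V g ↔
      rho V g * lam V v * (rho V g)⁻¹ = lam V v := by
    constructor
    · intro h; rw [h]; simp
    · intro h
      nth_rewrite 2 [← h]
      simp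
  rw [h1, rho_lam]
  constructor
  · intro h
    have h2 := congrArg (fun w : V => (w : G)) (lam_injective V h)
    simp only [MulAut.conjNormal_apply] at h2
    nth_rewrite 2 [← h2]
    simp
  · intro h
    congr 1
    apply Subtype.ext
    rw [MulAut.conjNormal_apply, h]
    simp

theorem rho_mem_normalizer (g : G) :
    rho V g ∈ Subgroup.normalizer ((lam V).range : Set (Equiv.Perm V)) := by
  rw [Subgroup.mem_normalizer_iff]
  intro h
  constructor
  · rintro ⟨v, rfl⟩
    exact ⟨_, (rho_lam V g v).symm⟩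
  · rintro ⟨v, hv⟩
    refine ⟨MulAut.conjNormal g⁻¹ v, ?_⟩
    rw [← rho_lam, hv, map_inv]
    simp [mul_assoc]

theorem rho_eq_one_of_mem_centralizer (g : G)
    (h : rho V g ∈ Subgroup.centralizer ((lam V).range : Set (Equiv.Perm V))) : rho V g = 1 := by
  rw [mem_ker_rho, Subgroup.mem_centralizer_iff]
  intro v hv
  rw [Subgroup.mem_centralizer_iff] at h
  have h1 := h (lam V ⟨v, hv⟩) ⟨_, rfl⟩
  exact ((rho_comm_lam_iff V g ⟨v, hv⟩).mp h1.symm).symm

theorem map_le_normalizer (J : Subgroup G) :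
    J.map (rho V) ≤ Subgroup.normalizer ((lam V).range : Set (Equiv.Perm V)) := by
  rintro _ ⟨g, -, rfl⟩
  exact rho_mem_normalizer V g

theorem map_inf_centralizer (J : Subgroup G) :
    J.map (rho V) ⊓ Subgroup.centralizer ((lam V).range : Set (Equiv.Perm V)) = ⊥ := by
  rw [eq_bot_iff]
  rintro x hx
  obtain ⟨⟨g, -, rfl⟩, h2⟩ := Subgroup.mem_inf.mp hx
  exact rho_eq_one_of_mem_centralizer V g h2

theorem fix_eq (B : Subgroup G) :
    (lam V).range ⊓ Subgroup.centralizer ((B.map (rho V) : Subgroup (Equiv.Perm V)) : Set _) =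
      ((V ⊓ Subgroup.centralizer (B : Set G)).subgroupOf V).map (lam V) := by
  ext x
  rw [Subgroup.mem_inf, Subgroup.mem_map]
  constructor
  · rintro ⟨⟨v, rfl⟩, h2⟩
    refine ⟨v, ?_, rfl⟩
    rw [Subgroup.mem_subgroupOf, Subgroup.mem_inf]
    refine ⟨v.2, ?_⟩
    rw [Subgroup.mem_centralizer_iff]
    intro b hb
    rw [Subgroup.mem_centralizer_iff] at h2
    exact (rho_comm_lam_iff V b v).mp (h2 _ ⟨b, hb, rfl⟩)
  · rintro ⟨v, hv, rfl⟩
    rw [Subgroup.mem_subgroupOf, Subgroup.mem_inf] at hv
    refine ⟨⟨v, rfl⟩, ?_⟩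
    rw [Subgroup.mem_centralizer_iff]
    rintro _ ⟨b, hb, rfl⟩
    exact (rho_comm_lam_iff V b v).mpr (Subgroup.mem_centralizer_iff.mp hv.2 b hb)

theorem card_fix (B : Subgroup G) :
    Nat.card ↥((lam V).range ⊓
      Subgroup.centralizer ((B.map (rho V) : Subgroup (Equiv.Perm V)) : Set _)) =
      Nat.card ↥(V ⊓ Subgroup.centralizer (B : Set G)) := by
  rw [fix_eq, Subgroup.card_map_of_injective (lam_injective V)]
  exact Nat.card_congr (Subgroup.subgroupOfEquivOfLe inf_le_left).toEquiv

theorem card_range : Nat.card ↥(lam V).range = Nat.card V :=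
  (Nat.card_congr (MonoidHom.ofInjective (lam_injective V)).toEquiv).symm

theorem card_map (A : Subgroup G) :
    Nat.card ↥(A.map (rho V)) * Nat.card ↥(A ⊓ Subgroup.centralizer (V : Set G)) =
      Nat.card A := by
  have h1 := Cfsg.Agent.Lib.Helper76.PSolv.card_eq_card_mul_relIndex
    (inf_le_left : A ⊓ Subgroup.centralizer (V : Set G) ≤ A)
  rw [h1, Subgroup.inf_relIndex_left, ← ker_rho, Subgroup.relIndex_ker, mul_comm]

theorem isElementaryAbelian_range {p : ℕ} (hV : Cfsg.IsElementaryAbelian p V) :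
    Cfsg.IsElementaryAbelian p (lam V).range := by
  obtain ⟨hc, he⟩ := hV
  refine ⟨⟨⟨?_⟩⟩, ?_⟩
  · rintro ⟨_, ⟨v, rfl⟩⟩ ⟨_, ⟨w, rfl⟩⟩
    apply Subtype.ext
    show lam V v * lam V w = lam V w * lam V v
    rw [← map_mul, ← map_mul]
    congr 1
    exact hc.1.1 v w
  · rintro _ ⟨v, rfl⟩
    rw [← map_pow]
    have : v ^ p = 1 := Subtype.ext (by simpa using he v v.2)
    rw [this, map_one]

theorem bo_map [Finite G] {p : ℕ} (A : Subgroup G) (hA : Cfsg.IsBestOffenderOn p V A) :
    Cfsg.IsBestOffenderOn p (lam V).range (A.map (rho V)) := by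
  obtain ⟨h1, h2, h3⟩ := hA
  refine ⟨?_, ?_, ?_⟩
  · intro B' hB'
    set B := A ⊓ B'.comap (rho V) with hB
    have hBmap : B.map (rho V) = B' := by
      apply le_antisymm
      · rintro _ ⟨b, hb, rfl⟩
        exact (Subgroup.mem_inf.mp hb).2
      · intro x hx
        obtain ⟨a, ha, rfl⟩ := hB' hx
        exact ⟨a, Subgroup.mem_inf.mpr ⟨ha, hx⟩, rfl⟩
    have hBC : B ⊓ Subgroup.centralizer (V : Set G) = A ⊓ Subgroup.centralizer (V : Set G) := by
      apply le_antisymm
      · exact inf_le_inf_right _ inf_le_left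
      · intro x hx
        obtain ⟨hxA, hxC⟩ := Subgroup.mem_inf.mp hx
        refine Subgroup.mem_inf.mpr ⟨Subgroup.mem_inf.mpr ⟨hxA, ?_⟩, hxC⟩
        rw [Subgroup.mem_comap, (mem_ker_rho V x).mpr hxC]
        exact B'.one_mem
    have h4 := h1 B inf_le_left
    rw [← card_map V B, ← card_map V A, hBC, ← card_fix V B, ← card_fix V A, hBmap] at h4
    have hpos : 0 < Nat.card ↥(A ⊓ Subgroup.centralizer (V : Set G)) := Nat.card_pos
    apply Nat.le_of_mul_le_mul_right _ hpos
    calc Nat.card B' * Nat.card ↥((lam V).range ⊓ Subgroup.centralizer (B' : Set _)) *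
          Nat.card ↥(A ⊓ Subgroup.centralizer (V : Set G))
        = Nat.card B' * Nat.card ↥(A ⊓ Subgroup.centralizer (V : Set G)) *
          Nat.card ↥((lam V).range ⊓ Subgroup.centralizer (B' : Set _)) := by ring
      _ ≤ _ := h4
      _ = _ := by ring
  · rw [← Subgroup.map_commutator]
    rintro _ ⟨x, hx, rfl⟩
    rw [(mem_ker_rho V x).mpr (h2 hx)]
    exact Subgroup.one_mem _
  · rintro _ ⟨a, ha, rfl⟩
    rw [← map_pow, (mem_ker_rho V _).mpr (h3 a ha)]
    exact Subgroup.one_mem _

theorem map_conj_map (J : Subgroup G) [hJ : J.Normal] (g : G) :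
    (J.map (rho V)).map (MulAut.conj (rho V g)).toMonoidHom = J.map (rho V) := by
  apply le_antisymm
  · rintro _ ⟨_, ⟨j, hj, rfl⟩, rfl⟩
    refine ⟨g * j * g⁻¹, hJ.conj_mem j hj g, ?_⟩
    simp
  · rintro _ ⟨j, hj, rfl⟩
    refine ⟨rho V (g⁻¹ * j * g), ⟨_, ?_, rfl⟩, ?_⟩
    · simpa using hJ.conj_mem j hj g⁻¹
    · simp [mul_assoc]

theorem pCore_map_eq_bot [Finite G] {p : ℕ} [Fact p.Prime]
    (hOp : ∀ D : Subgroup G, D.Normal → Subgroup.centralizer (V : Set G) ≤ D →
      (∃ k : ℕ, (Subgroup.centralizer (V : Set G)).relIndex D = p ^ k) →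
      D = Subgroup.centralizer (V : Set G))
    (J : Subgroup G) [hJ : J.Normal] : Cfsg.pCore p ↥(J.map (rho V)) = ⊥ := by
  set H' := J.map (rho V) with hH'
  set P := (Cfsg.pCore p ↥H').map H'.subtype with hP
  have hPH : P ≤ H' := by
    rintro _ ⟨x, -, rfl⟩
    exact x.2
  have hPp : IsPGroup p P := (Cfsg.Agent.Lib.Helper76.PSolv.pCore_isPGroup p).map _
  have hchar : (Cfsg.pCore p ↥H').Characteristic :=
    Cfsg.Agent.Lib.Helper11.PConstr.pCore_characteristic p ↥H'
  have hinv : ∀ g : G, ∀ x ∈ P, rho V g * x * (rho V g)⁻¹ ∈ P := by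
    intro g x hx
    obtain ⟨y, hy, rfl⟩ := hx
    let φ : ↥H' ≃* ↥H' := (MulEquiv.subgroupMap (MulAut.conj (rho V g)) H').trans
      (MulEquiv.subgroupCongr (map_conj_map V J g))
    have h3 : φ y ∈ Cfsg.pCore p ↥H' := by
      have h4 := hchar.fixed φ
      rw [← h4] at hy
      exact hy
    exact ⟨φ y, h3, rfl⟩
  set D := P.comap (rho V) with hD
  have hDn : D.Normal := ⟨fun d hd g => by
    rw [hD, Subgroup.mem_comap] at hd ⊢
    simpa using hinv g _ hd⟩
  have hCD : Subgroup.centralizer (V : Set G) ≤ D := fun c hc => by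
    rw [hD, Subgroup.mem_comap, (mem_ker_rho V c).mpr hc]; exact P.one_mem
  have hrel : ∃ k : ℕ, (Subgroup.centralizer (V : Set G)).relIndex D = p ^ k := by
    have h1 : (rho V).ker.relIndex D = Nat.card (D.map (rho V)) := Subgroup.relIndex_ker _ _
    have hp' : IsPGroup p (D.map (rho V)) := hPp.to_le (Subgroup.map_comap_le _ _)
    obtain ⟨k, hk⟩ := hp'.exists_card_eq
    exact ⟨k, by rw [← ker_rho, h1, hk]⟩
  have hDC := hOp D hDn hCD hrel
  have hPbot : P = ⊥ := by
    rw [eq_bot_iff]
    intro x hx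
    obtain ⟨j, hj, rfl⟩ := hPH hx
    have h1 : j ∈ D := hx
    rw [hDC] at h1
    exact (mem_ker_rho V j).mpr h1
  exact (Subgroup.map_eq_bot_iff_of_injective _ H'.subtype_injective).mp hPbot

theorem hS1 [Finite G] {p : ℕ} [Fact p.Prime] (hsep : PChain p G)
    (hOp : ∀ D : Subgroup G, D.Normal → Subgroup.centralizer (V : Set G) ≤ D →
      (∃ k : ℕ, (Subgroup.centralizer (V : Set G)).relIndex D = p ^ k) →
      D = Subgroup.centralizer (V : Set G))
    (J : Subgroup G) [hJ : J.Normal] :
    Subgroup.centralizer (Cfsg.pPrimeCore p ↥(J.map (rho V)) : Set ↥(J.map (rho V))) ≤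
      Cfsg.pPrimeCore p ↥(J.map (rho V)) :=
  centralizer_pPrimeCore_le p
    ((hsep.of_injective J.subtype J.subtype_injective).of_surjective ((rho V).subgroupMap J)
      ((rho V).subgroupMap_surjective J)) (pCore_map_eq_bot V hOp J)

theorem hS3 [Finite G] {p : ℕ} (J : Subgroup G)
    (hJ : J ≤ ⨆ A : {A : Subgroup G // A ≤ J ∧ Cfsg.IsBestOffenderOn p V A}, (A : Subgroup G)) :
    J.map (rho V) = ⨆ A : {A : Subgroup (Equiv.Perm V) // A ≤ J.map (rho V) ∧
      Cfsg.IsBestOffenderOn p (lam V).range A}, (A : Subgroup (Equiv.Perm V)) := by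
  apply le_antisymm
  · rw [Subgroup.map_le_iff_le_comap]
    refine hJ.trans (iSup_le ?_)
    rintro ⟨A, hAJ, hA⟩
    rw [← Subgroup.map_le_iff_le_comap]
    exact le_iSup (fun A : {A : Subgroup (Equiv.Perm V) // A ≤ J.map (rho V) ∧
      Cfsg.IsBestOffenderOn p (lam V).range A} => (A : Subgroup (Equiv.Perm V)))
      ⟨A.map (rho V), Subgroup.map_mono hAJ, bo_map V A hA⟩
  · exact iSup_le fun A => A.2.1

theorem map_ne_bot (J : Subgroup G) (hJ : ¬ J ≤ Subgroup.centralizer (V : Set G)) :
    J.map (rho V) ≠ ⊥ := by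
  intro h
  apply hJ
  intro j hj
  rw [← mem_ker_rho]
  have h1 : rho V j ∈ J.map (rho V) := ⟨j, hj, rfl⟩
  rw [h] at h1
  exact h1

end Perm

end Cfsg.Agent.Lib.Helper49.Faithful
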