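import Mathlib
import Cfsg.Prelude.Def_SylowControl

set_option autoImplicit false

namespace Cfsg.Agent.Lib.Helper49.SylowConj

open Cfsg

variable {G : Type*} [Group G]

/-- Membership in a right conjugate `X^g = g⁻¹ X g`. -/
theorem mem_subgroupConjRight_iff (g : G) (X : Subgroup G) (u : G) :
    u ∈ subgroupConjRight g X ↔ g * u * g⁻¹ ∈ X := by
  unfold subgroupConjRight
  constructor
  · rintro ⟨x, hx, rfl⟩
    have : g * ((MulAut.conj g⁻¹).toMonoidHom x) * g⁻¹ = x := by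
      simp [MulAut.conj_apply, mul_assoc]
    rw [this]
    exact hx
  · intro h
    refine ⟨g * u * g⁻¹, h, ?_⟩
    simp [MulAut.conj_apply, mul_assoc]

/-- Membership in a conjugate Sylow subgroup. -/
theorem mem_smul_sylow_iff {p : ℕ} (c : G) (S : Sylow p G) (u : G) :
    u ∈ ((c • S : Sylow p G) : Subgroup G) ↔ c⁻¹ * u * c ∈ (S : Subgroup G) := by
  rw [Sylow.coe_subgroup_smul, Subgroup.mem_pointwise_smul_iff_inv_smul_mem]
  simp [MulAut.smul_def, MulAut.conj_apply]

/-- A conjugate Sylow subgroup as a right conjugate. -/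
theorem coe_smul_sylow {p : ℕ} (c : G) (S : Sylow p G) :
    ((c • S : Sylow p G) : Subgroup G) = subgroupConjRight c⁻¹ (S : Subgroup G) := by
  ext u
  rw [mem_smul_sylow_iff, mem_subgroupConjRight_iff, inv_inv]

/-- Right conjugation is monotone. -/
theorem subgroupConjRight_mono (g : G) {X Y : Subgroup G} (h : X ≤ Y) :
    subgroupConjRight g X ≤ subgroupConjRight g Y :=
  Subgroup.map_mono h

/-- A `p`-subgroup `Q` of a subgroup `D` containing a Sylow `p`-subgroup `S` of `G` lies in a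
`D`-conjugate of `S`. -/
theorem exists_smul_sylow_ge [Finite G] {p : ℕ} [Fact p.Prime] (S : Sylow p G) (D Q : Subgroup G)
    (hSD : (S : Subgroup G) ≤ D) (hQD : Q ≤ D) (hQ : IsPGroup p Q) :
    ∃ d ∈ D, Q ≤ ((d • S : Sylow p G) : Subgroup G) ∧ ((d • S : Sylow p G) : Subgroup G) ≤ D := by
  have hQ' : IsPGroup p (Q.subgroupOf D) := hQ.comap_subtype
  obtain ⟨R, hR⟩ := hQ'.exists_le_sylow
  obtain ⟨d, hd⟩ := MulAction.exists_smul_eq ↥D (S.subtype hSD) R
  refine ⟨d, d.2, ?_, Sylow.smul_le hSD d⟩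
  intro q hq
  have h1 : (⟨q, hQD hq⟩ : ↥D) ∈ R := hR (Subgroup.mem_subgroupOf.mpr hq)
  rw [← hd, Sylow.smul_subtype hSD d] at h1
  have h2 : (⟨q, hQD hq⟩ : ↥D) ∈ (((d : G) • S : Sylow p G) : Subgroup G).subgroupOf D := by
    rw [← Sylow.coe_subtype]
    exact h1
  exact Subgroup.mem_subgroupOf.mp h2

end Cfsg.Agent.Lib.Helper49.SylowConj
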