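import Mathlib
import Cfsg.Agent.Lib.Helper24.ConjAction
import Cfsg.Agent.Lib.Helper86.ElemAb
import Cfsg.Agent.Lib.Helper38.SLCard

set_option autoImplicit false
set_option linter.unusedSectionVars false
set_option linter.unusedVariables false

/-!
Counting lemmas for groups acting on an elementary abelian group `W` of order `p ^ 2`.

* `card_le_SL2`: a group `T` normalizing `W` and generated by elements of order dividing `p`
  satisfies `|T| ≤ |SL₂(p)| |C_T(W)|` (the determinant of a `p`-element of `GL₂(p)` is `1`).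
* `card_SL2_zmod`: `|SL₂(p)| = p (p² - 1)`.
* `card_le_of_conj_inj`: a faithful group on `W = ⟨t, s⟩` has at most as many elements as there
  are possible pairs of images of `t` and `s`.
* `card_sup_le_of_le_normalizer`, `card_mul_le_card_sup`, `exists_mul_of_mem_sup`.
-/

namespace Cfsg.Agent.Lib.Helper49.SL2Bound

open Cfsg.Agent.Lib.Helper24.ConjAction

variable {G : Type*} [Group G]

theorem card_SL2_zmod (p : ℕ) [Fact p.Prime] :
    Nat.card (Matrix.SpecialLinearGroup (Fin 2) (ZMod p)) = p * (p ^ 2 - 1) := by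
  rw [Cfsg.Agent.Lib.Helper38.SLCard.card_SL2, ZMod.card]

theorem exists_mul_of_mem_sup {X Y : Subgroup G} (h : X ≤ Subgroup.normalizer (Y : Set G))
    {v : G} (hv : v ∈ X ⊔ Y) : ∃ x ∈ X, ∃ y ∈ Y, v = x * y := by
  have hcoe := Subgroup.coe_mul_of_left_le_normalizer_right X Y h
  have hv' : v ∈ ((X ⊔ Y : Subgroup G) : Set G) := hv
  rw [hcoe] at hv'
  obtain ⟨x, hx, y, hy, rfl⟩ := Set.mem_mul.1 hv'
  exact ⟨x, hx, y, hy, rfl⟩

theorem card_sup_le_of_le_normalizer [Finite G] {X Y : Subgroup G}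
    (h : X ≤ Subgroup.normalizer (Y : Set G)) :
    Nat.card ↥(X ⊔ Y) ≤ Nat.card X * Nat.card Y := by
  let f : ↥X × ↥Y → ↥(X ⊔ Y) := fun q =>
    ⟨(q.1 : G) * (q.2 : G), Subgroup.mul_mem _ (Subgroup.mem_sup_left q.1.2)
      (Subgroup.mem_sup_right q.2.2)⟩
  have hf : Function.Surjective f := by
    rintro ⟨g, hg⟩
    obtain ⟨x, hx, y, hy, rfl⟩ := exists_mul_of_mem_sup h hg
    exact ⟨(⟨x, hx⟩, ⟨y, hy⟩), rfl⟩
  have := Nat.card_le_card_of_surjective f hf
  rwa [Nat.card_prod] at this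

theorem card_mul_le_card_sup [Finite G] {X Y : Subgroup G} (h : X ⊓ Y = ⊥) :
    Nat.card X * Nat.card Y ≤ Nat.card ↥(X ⊔ Y) := by
  let f : ↥X × ↥Y → ↥(X ⊔ Y) := fun q =>
    ⟨(q.1 : G) * (q.2 : G), Subgroup.mul_mem _ (Subgroup.mem_sup_left q.1.2)
      (Subgroup.mem_sup_right q.2.2)⟩
  have hf : Function.Injective f := by
    rintro ⟨⟨x, hx⟩, ⟨y, hy⟩⟩ ⟨⟨x', hx'⟩, ⟨y', hy'⟩⟩ hq
    have hq' : x * y = x' * y' := congrArg Subtype.val hq
    have h1 : x'⁻¹ * x = y' * y⁻¹ := by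
      rw [inv_mul_eq_iff_eq_mul, ← mul_assoc, ← hq']
      group
    have h2 : x'⁻¹ * x ∈ X ⊓ Y :=
      Subgroup.mem_inf.mpr ⟨mul_mem (inv_mem hx') hx, h1 ▸ mul_mem hy' (inv_mem hy)⟩
    rw [h, Subgroup.mem_bot] at h2
    have hxx : x = x' := by
      rw [inv_mul_eq_one] at h2
      exact h2.symm
    subst hxx
    have hyy : y = y' := mul_left_cancel hq'
    subst hyy
    rfl
  have := Nat.card_le_card_of_injective f hf
  rwa [Nat.card_prod] at this

/-- A faithful group on `W ≤ ⟨t, s⟩` has at most as many elements as there are possible pairs of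
images of `t` and `s`. -/
theorem card_le_of_conj_inj [Finite G] {X W : Subgroup G} {t s : G}
    (hX : X ⊓ Subgroup.centralizer (W : Set G) = ⊥) (hW : W ≤ Subgroup.closure {t, s})
    (T₁ T₂ : Set G) (h₁ : ∀ g ∈ X, g * t * g⁻¹ ∈ T₁) (h₂ : ∀ g ∈ X, g * s * g⁻¹ ∈ T₂) :
    Nat.card X ≤ T₁.ncard * T₂.ncard := by
  let f : ↥X → ↥T₁ × ↥T₂ := fun g => (⟨g * t * (g : G)⁻¹, h₁ g g.2⟩, ⟨g * s * (g : G)⁻¹, h₂ g g.2⟩)
  have hf : Function.Injective f := by
    rintro ⟨g, hg⟩ ⟨g', hg'⟩ hq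
    have e1 : g * t * g⁻¹ = g' * t * g'⁻¹ := congrArg (fun q => (q.1 : G)) hq
    have e2 : g * s * g⁻¹ = g' * s * g'⁻¹ := congrArg (fun q => (q.2 : G)) hq
    have hc : g'⁻¹ * g ∈ Subgroup.centralizer (W : Set G) := by
      have hts : ({t, s} : Set G) ⊆ Subgroup.centralizer ({g'⁻¹ * g} : Set G) := by
        intro u hu
        rw [SetLike.mem_coe, Subgroup.mem_centralizer_iff]
        intro k hk
        rw [Set.mem_singleton_iff] at hk
        subst hk
        rcases hu with rfl | hu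
        · calc g'⁻¹ * g * u = g'⁻¹ * (g * u * g⁻¹) * g := by group
            _ = g'⁻¹ * (g' * u * g'⁻¹) * g := by rw [e1]
            _ = u * (g'⁻¹ * g) := by group
        · rw [Set.mem_singleton_iff] at hu
          subst hu
          calc g'⁻¹ * g * u = g'⁻¹ * (g * u * g⁻¹) * g := by group
            _ = g'⁻¹ * (g' * u * g'⁻¹) * g := by rw [e2]
            _ = u * (g'⁻¹ * g) := by group
      have h3 : W ≤ Subgroup.centralizer ({g'⁻¹ * g} : Set G) :=
        hW.trans ((Subgroup.closure_le _).mpr hts)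
      rw [Subgroup.mem_centralizer_iff]
      intro w hw
      exact ((Subgroup.mem_centralizer_iff.mp (h3 hw)) _ rfl).symm
    have h4 : g'⁻¹ * g ∈ X ⊓ Subgroup.centralizer (W : Set G) :=
      Subgroup.mem_inf.mpr ⟨mul_mem (inv_mem hg') hg, hc⟩
    rw [hX, Subgroup.mem_bot, inv_mul_eq_one] at h4
    exact Subtype.ext h4.symm
  have := Nat.card_le_card_of_injective f hf
  rwa [Nat.card_prod, Nat.card_coe_set_eq, Nat.card_coe_set_eq] at this

/-- A group normalizing an elementary abelian group `W` of order `p ^ 2` and generated by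
elements of order dividing `p` induces on `W` a group of order at most `|SL₂(p)|`. -/
theorem card_le_SL2 [Finite G] {p : ℕ} [Fact p.Prime] {W T : Subgroup G}
    (hWab : ∀ a ∈ W, ∀ b ∈ W, a * b = b * a) (hWp : ∀ a ∈ W, a ^ p = 1)
    (hWc : Nat.card W = p ^ 2) (hTW : T ≤ Subgroup.normalizer (W : Set G))
    (hgen : T ≤ Subgroup.closure {g | g ∈ T ∧ g ^ p = 1}) :
    Nat.card T ≤ Nat.card (Matrix.SpecialLinearGroup (Fin 2) (ZMod p)) *
      Nat.card ↥(T ⊓ Subgroup.centralizer (W : Set G)) := by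
  have hp : p.Prime := Fact.out
  obtain ⟨e⟩ := Cfsg.Agent.Lib.Helper86.ElemAb.exists_mulAut_equiv_GL (H := ↥W) (p := p)
    (fun a b => Subtype.ext (hWab a a.2 b b.2))
    (fun a => Subtype.ext (by simpa using hWp a a.2)) 2 hWc
  let φ : ↥T →* MulAut ↥W := conjHom T W hTW
  let ψ : ↥T →* GL (Fin 2) (ZMod p) := e.toMonoidHom.comp φ
  let δ : ↥T →* (ZMod p)ˣ := Matrix.GeneralLinearGroup.det.comp ψ
  -- the determinant is trivial on `T`
  have hδ : ∀ t : ↥T, δ t = 1 := by
    have hle : T ≤ (δ.ker).map T.subtype := by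
      refine hgen.trans ((Subgroup.closure_le _).mpr ?_)
      rintro g ⟨hgT, hgp⟩
      refine ⟨⟨g, hgT⟩, ?_, rfl⟩
      rw [SetLike.mem_coe, MonoidHom.mem_ker]
      have h1 : δ ⟨g, hgT⟩ ^ p = 1 := by
        rw [← map_pow]
        have : (⟨g, hgT⟩ : ↥T) ^ p = 1 := Subtype.ext (by simpa using hgp)
        rw [this, map_one]
      have h2 : δ ⟨g, hgT⟩ ^ (p - 1) = 1 := ZMod.units_pow_card_sub_one_eq_one p _
      have h3 : orderOf (δ ⟨g, hgT⟩) ∣ p := orderOf_dvd_of_pow_eq_one h1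
      have h4 : orderOf (δ ⟨g, hgT⟩) ∣ p - 1 := orderOf_dvd_of_pow_eq_one h2
      have hco : Nat.Coprime p (p - 1) := by
        have := hp.one_lt
        have h5 : Nat.Coprime (p - 1 + 1) (p - 1) := (Nat.coprime_self_add_left).mpr (Nat.coprime_one_left _)
        rwa [Nat.sub_add_cancel hp.one_lt.le] at h5
      exact orderOf_eq_one_iff.mp (Nat.eq_one_of_dvd_coprimes hco h3 h4)
    intro t
    obtain ⟨t', ht', htt⟩ := hle t.2
    have : t' = t := Subtype.ext htt
    rw [← this]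
    exact MonoidHom.mem_ker.mp ht'
  -- the image lies in `SL₂(p)`
  have hrange : ψ.range ≤ (Matrix.SpecialLinearGroup.toGL :
      Matrix.SpecialLinearGroup (Fin 2) (ZMod p) →* GL (Fin 2) (ZMod p)).range := by
    rintro _ ⟨t, rfl⟩
    have h1 : Matrix.GeneralLinearGroup.det (ψ t) = 1 := hδ t
    have h2 : ((ψ t : GL (Fin 2) (ZMod p)) : Matrix (Fin 2) (Fin 2) (ZMod p)).det = 1 := by
      have := congrArg (fun u : (ZMod p)ˣ => (u : ZMod p)) h1
      simpa [Matrix.GeneralLinearGroup.val_det_apply] using this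
    refine ⟨⟨_, h2⟩, ?_⟩
    apply Units.ext
    rfl
  have hcr : Nat.card ψ.range ≤ Nat.card (Matrix.SpecialLinearGroup (Fin 2) (ZMod p)) := by
    have h1 := Subgroup.card_le_of_le hrange
    have h2 : Nat.card (Matrix.SpecialLinearGroup.toGL :
        Matrix.SpecialLinearGroup (Fin 2) (ZMod p) →* GL (Fin 2) (ZMod p)).range
        = Nat.card (Matrix.SpecialLinearGroup (Fin 2) (ZMod p)) :=
      (Nat.card_congr (MonoidHom.ofInjective Matrix.SpecialLinearGroup.toGL_injective).toEquiv).symm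
    rwa [h2] at h1
  -- the kernel is `C_T(W)`
  have hck : Nat.card ψ.ker ≤ Nat.card ↥(T ⊓ Subgroup.centralizer (W : Set G)) := by
    have hmem : ∀ k : ↥ψ.ker, ((k : ↥T) : G) ∈ T ⊓ Subgroup.centralizer (W : Set G) := by
      intro k
      refine Subgroup.mem_inf.mpr ⟨(k : ↥T).2, ?_⟩
      have h1 : ψ k = 1 := MonoidHom.mem_ker.mp k.2
      have h2 : φ k = 1 := by
        have : e (φ k) = e 1 := by rw [map_one]; exact h1
        exact e.injective this
      rw [Subgroup.mem_centralizer_iff]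
      intro w hw
      have h3 : ((φ k ⟨w, hw⟩ : ↥W) : G) = w := by rw [h2]; rfl
      rw [conjHom_apply] at h3
      have h4 : ((k : ↥T) : G) * w * ((k : ↥T) : G)⁻¹ = w := h3
      calc w * ((k : ↥T) : G) = (((k : ↥T) : G) * w * ((k : ↥T) : G)⁻¹) * ((k : ↥T) : G) := by
            rw [h4]
        _ = ((k : ↥T) : G) * w := by group
    let f : ↥ψ.ker → ↥(T ⊓ Subgroup.centralizer (W : Set G)) := fun k => ⟨((k : ↥T) : G), hmem k⟩
    have hf : Function.Injective f := by
      intro k k' hkk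
      have : ((k : ↥T) : G) = ((k' : ↥T) : G) :=
        congrArg (fun q : ↥(T ⊓ Subgroup.centralizer (W : Set G)) => (q : G)) hkk
      exact Subtype.ext (Subtype.ext this)
    exact Nat.card_le_card_of_injective f hf
  calc Nat.card T = Nat.card ψ.ker * ψ.ker.index := (Subgroup.card_mul_index ψ.ker).symm
    _ = Nat.card ψ.ker * Nat.card ψ.range := by rw [Subgroup.index_ker]
    _ ≤ Nat.card ↥(T ⊓ Subgroup.centralizer (W : Set G)) *
        Nat.card (Matrix.SpecialLinearGroup (Fin 2) (ZMod p)) := Nat.mul_le_mul hck hcr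
    _ = _ := Nat.mul_comm _ _

end Cfsg.Agent.Lib.Helper49.SL2Bound
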