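import Mathlib
import Cfsg.Agent.Lib.Helper62.Wielandt

set_option autoImplicit false
set_option linter.unusedSectionVars false
set_option linter.unusedVariables false

/-!
Two subnormal subgroups `E₁`, `E₂` generating a faithful group `E` on an elementary abelian
`p`-group `V`, each irreducible on its commutator module, with incomparable commutator modules
(Kurzweil–Stellmacher 9.3, the direct product lemma).

* `qc V W`: the elements normalizing `V` and acting trivially on `V` modulo `W`.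
* `isPGroup_of_le_qc`: a faithful group stabilizing the chain `1 ≤ W ≤ V` is a `p`-group.
* `Pair`: the hypotheses; `pair_result`: `[E₁,E₂] = 1`, `E₁ ∩ E₂ = 1`, `[V,E₁] ∩ [V,E₂] = 1`,
  `[V,E] = [V,E₁][V,E₂]`.
-/

namespace Cfsg.Agent.Lib.Helper49.SubnPair

open scoped commutatorElement Pointwise

variable {G : Type*} [Group G]

section basic

theorem le_normalizer_of_conj_mem {X W : Subgroup G}
    (h : ∀ e ∈ X, ∀ w ∈ W, e * w * e⁻¹ ∈ W) : X ≤ Subgroup.normalizer (W : Set G) := by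
  intro e he
  rw [Subgroup.mem_normalizer_iff]
  intro w
  refine ⟨h e he w, fun hw => ?_⟩
  have := h e⁻¹ (inv_mem he) _ hw
  simpa [mul_assoc] using this

theorem conj_mem_of_mem_normalizer {W : Subgroup G} {e w : G}
    (he : e ∈ Subgroup.normalizer (W : Set G)) (hw : w ∈ W) : e * w * e⁻¹ ∈ W :=
  (Subgroup.mem_normalizer_iff.mp he w).mp hw

theorem conj_mem_of_mem_normalizer' {W : Subgroup G} {e w : G}
    (he : e ∈ Subgroup.normalizer (W : Set G)) (hw : w ∈ W) : e⁻¹ * w * e ∈ W := by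
  have := conj_mem_of_mem_normalizer (inv_mem he) hw
  simpa using this

theorem mem_normalizer_bot (g : G) : g ∈ Subgroup.normalizer ((⊥ : Subgroup G) : Set G) := by
  rw [Subgroup.mem_normalizer_iff]
  intro h
  simp

theorem mem_conj_smul {H : Subgroup G} {x w : G} :
    w ∈ MulAut.conj x • H ↔ x⁻¹ * w * x ∈ H := by
  rw [Subgroup.mem_pointwise_smul_iff_inv_smul_mem]
  simp [MulAut.smul_def]

theorem commutator_le_left_of_le_normalizer {V X : Subgroup G}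
    (hX : X ≤ Subgroup.normalizer (V : Set G)) : ⁅V, X⁆ ≤ V := by
  rw [Subgroup.commutator_le]
  intro v hv e he
  have : ⁅v, e⁆ = v * (e * v⁻¹ * e⁻¹) := by simp [commutatorElement_def, mul_assoc]
  rw [this]
  exact mul_mem hv (conj_mem_of_mem_normalizer (hX he) (inv_mem hv))

theorem mem_normalizer_commutator {A B : Subgroup G} {g : G}
    (hA : g ∈ Subgroup.normalizer (A : Set G)) (hB : g ∈ Subgroup.normalizer (B : Set G)) :
    g ∈ Subgroup.normalizer ((⁅A, B⁆ : Subgroup G) : Set G) := by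
  rw [← Cfsg.Agent.Lib.Helper62.Wielandt.conj_smul_eq_iff] at hA hB ⊢
  have h1 : MulAut.conj g • ⁅A, B⁆ = ⁅MulAut.conj g • A, MulAut.conj g • B⁆ :=
    Subgroup.map_commutator A B (MulAut.conj g).toMonoidHom
  rw [h1, hA, hB]

theorem comm_conj {V X : Subgroup G} {x : G} (hx : x ∈ Subgroup.normalizer (V : Set G)) :
    ⁅V, MulAut.conj x • X⁆ = MulAut.conj x • ⁅V, X⁆ := by
  have h1 : MulAut.conj x • ⁅V, X⁆ = ⁅MulAut.conj x • V, MulAut.conj x • X⁆ :=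
    Subgroup.map_commutator V X (MulAut.conj x).toMonoidHom
  rw [h1, (Cfsg.Agent.Lib.Helper62.Wielandt.conj_smul_eq_iff x V).mpr hx]

theorem subn_of_le {S J E : Subgroup G} (hJE : J ≤ E)
    (h : (S.subgroupOf E).IsSubnormal) : (S.subgroupOf J).IsSubnormal := by
  have : S.subgroupOf J = (S.subgroupOf E).comap (Subgroup.inclusion hJE) := by
    ext y
    rfl
  rw [this]
  exact h.comap _

theorem subn_trans {P J E : Subgroup G} (hPJ : P ≤ J) (hJE : J ≤ E)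
    (h1 : (P.subgroupOf J).IsSubnormal) (h2 : (J.subgroupOf E).IsSubnormal) :
    (P.subgroupOf E).IsSubnormal :=
  Subgroup.IsSubnormal.trans (fun x hx => hPJ hx)
    (Cfsg.Agent.Lib.Helper62.Wielandt.subgroupOf_subgroupOf_isSubnormal hJE h1) h2

/-- the elements normalizing `V` and acting trivially on `V` modulo `W` -/
def qc (V W : Subgroup G) : Subgroup G where
  carrier := {e | e ∈ Subgroup.normalizer (V : Set G) ∧ ∀ v ∈ V, ⁅v, e⁆ ∈ W}
  one_mem' := ⟨one_mem _, fun v _ => by simp⟩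
  mul_mem' := by
    rintro a b ⟨ha, ha'⟩ ⟨hb, hb'⟩
    refine ⟨mul_mem ha hb, fun v hv => ?_⟩
    have hu : ⁅v, b⁆ ∈ V := by
      have : ⁅v, b⁆ = v * (b * v⁻¹ * b⁻¹) := by simp [commutatorElement_def, mul_assoc]
      rw [this]
      exact mul_mem hv (conj_mem_of_mem_normalizer hb (inv_mem hv))
    have : ⁅v, a * b⁆ = ⁅v, a⁆ * ⁅v, b⁆ * ⁅⁅v, b⁆⁻¹, a⁆ := by
      simp only [commutatorElement_def]
      group
    rw [this]
    exact mul_mem (mul_mem (ha' v hv) (hb' v hv)) (ha' _ (inv_mem hu))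
  inv_mem' := by
    rintro a ⟨ha, ha'⟩
    refine ⟨inv_mem ha, fun v hv => ?_⟩
    have : ⁅v, a⁻¹⁆ = ⁅a⁻¹ * v * a, a⁆⁻¹ := by
      simp only [commutatorElement_def]
      group
    rw [this]
    exact inv_mem (ha' _ (conj_mem_of_mem_normalizer' ha hv))

theorem le_qc {V W X : Subgroup G} (hX : X ≤ Subgroup.normalizer (V : Set G))
    (h : ⁅V, X⁆ ≤ W) : X ≤ qc V W := fun e he =>
  ⟨hX he, fun v hv => h (Subgroup.commutator_mem_commutator hv he)⟩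

theorem commutator_le_of_le_qc {V W X : Subgroup G} (h : X ≤ qc V W) : ⁅V, X⁆ ≤ W :=
  Subgroup.commutator_le.mpr (fun v hv e he => (h he).2 v hv)

theorem conj_mem_qc {V W : Subgroup G} {g e : G} (hgV : g ∈ Subgroup.normalizer (V : Set G))
    (hgW : g ∈ Subgroup.normalizer (W : Set G)) (he : e ∈ qc V W) : g * e * g⁻¹ ∈ qc V W := by
  refine ⟨mul_mem (mul_mem hgV he.1) (inv_mem hgV), fun v hv => ?_⟩
  have : ⁅v, g * e * g⁻¹⁆ = g * ⁅g⁻¹ * v * g, e⁆ * g⁻¹ := by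
    simp only [commutatorElement_def]
    group
  rw [this]
  exact conj_mem_of_mem_normalizer hgW (he.2 _ (conj_mem_of_mem_normalizer' hgV hv))

theorem comm_of_mem_qc_bot {W : Subgroup G} {e w : G} (he : e ∈ qc W ⊥) (hw : w ∈ W) :
    w * e = e * w := by
  have := he.2 w hw
  rw [Subgroup.mem_bot, commutatorElement_eq_one_iff_mul_comm] at this
  exact this

theorem mem_qc_bot {W : Subgroup G} {e : G} (he : e ∈ Subgroup.normalizer (W : Set G))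
    (h : ∀ w ∈ W, w * e = e * w) : e ∈ qc W ⊥ :=
  ⟨he, fun w hw => by
    rw [Subgroup.mem_bot, commutatorElement_eq_one_iff_mul_comm]
    exact h w hw⟩

theorem pow_mem_centralizer {p : ℕ} {V W : Subgroup G} (hVp : ∀ a ∈ V, a ^ p = 1)
    (hWV : W ≤ V) {c : G} (h1 : c ∈ qc V W) (h2 : c ∈ qc W ⊥) :
    c ^ p ∈ Subgroup.centralizer (V : Set G) := by
  rw [Subgroup.mem_centralizer_iff]
  intro v hv
  have hwW : ⁅v⁻¹, c⁆ ∈ W := h1.2 _ (inv_mem hv)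
  obtain ⟨w, hw⟩ : ∃ w, w = ⁅v⁻¹, c⁆ := ⟨_, rfl⟩
  rw [← hw] at hwW
  have hwc : w * c = c * w := comm_of_mem_qc_bot h2 hwW
  have hcv : c * v = v * w * c := by
    rw [hw, commutatorElement_def]
    group
  have key : ∀ n : ℕ, c ^ n * v = v * w ^ n * c ^ n := by
    intro n
    induction n with
    | zero => simp
    | succ n ih =>
      have hwn : w ^ n * c = c * w ^ n := (Commute.pow_left (show Commute w c from hwc) n).eq
      calc c ^ (n + 1) * v = c * (c ^ n * v) := by rw [pow_succ', mul_assoc]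
        _ = (c * v) * w ^ n * c ^ n := by rw [ih]; simp only [mul_assoc]
        _ = v * w * (c * w ^ n) * c ^ n := by rw [hcv]; simp only [mul_assoc]
        _ = v * w * (w ^ n * c) * c ^ n := by rw [hwn]
        _ = v * w ^ (n + 1) * c ^ (n + 1) := by
          rw [pow_succ' w, pow_succ' c]; simp only [mul_assoc]
  have := key p
  rw [hVp w (hWV hwW), mul_one] at this
  exact this.symm

theorem isPGroup_of_exp {p : ℕ} {A : Subgroup G} (hAexp : ∀ a ∈ A, a ^ p = 1) :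
    IsPGroup p A := fun g =>
  ⟨1, by rw [pow_one]; exact Subtype.ext (by simpa using hAexp g g.2)⟩

theorem isPGroup_of_le_qc {p : ℕ} {V W C : Subgroup G}
    (hVp : ∀ a ∈ V, a ^ p = 1) (hWV : W ≤ V) (h1 : C ≤ qc V W) (h2 : C ≤ qc W ⊥)
    (hf : C ⊓ Subgroup.centralizer (V : Set G) = ⊥) : IsPGroup p C := by
  apply isPGroup_of_exp
  intro c hc
  have : c ^ p ∈ C ⊓ Subgroup.centralizer (V : Set G) :=
    ⟨pow_mem hc p, pow_mem_centralizer hVp hWV (h1 hc) (h2 hc)⟩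
  rw [hf] at this
  exact Subgroup.mem_bot.mp this

theorem irr_conj {V X : Subgroup G} {x : G} (hxV : x ∈ Subgroup.normalizer (V : Set G))
    (h : ∀ U : Subgroup G, U ≤ ⁅V, X⁆ → X ≤ Subgroup.normalizer (U : Set G) →
      U = ⊥ ∨ U = ⁅V, X⁆) :
    ∀ U : Subgroup G, U ≤ ⁅V, MulAut.conj x • X⁆ →
      MulAut.conj x • X ≤ Subgroup.normalizer (U : Set G) →
      U = ⊥ ∨ U = ⁅V, MulAut.conj x • X⁆ := by
  intro U hU hN
  rw [comm_conj hxV] at hU ⊢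
  have h0 : (MulAut.conj x)⁻¹ • U ≤ ⁅V, X⁆ := Subgroup.subset_pointwise_smul_iff.mp hU
  have hmem : ∀ w : G, w ∈ (MulAut.conj x)⁻¹ • U ↔ x * w * x⁻¹ ∈ U := by
    intro w
    rw [Subgroup.mem_pointwise_smul_iff_inv_smul_mem]
    simp [MulAut.smul_def]
  have hN0 : X ≤ Subgroup.normalizer (((MulAut.conj x)⁻¹ • U : Subgroup G) : Set G) := by
    apply le_normalizer_of_conj_mem
    intro e he w hw
    rw [hmem] at hw ⊢
    have he' : x * e * x⁻¹ ∈ MulAut.conj x • X := by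
      rw [mem_conj_smul]
      simpa [mul_assoc] using he
    have := conj_mem_of_mem_normalizer (hN he') hw
    have e1 : x * (e * w * e⁻¹) * x⁻¹ = x * e * x⁻¹ * (x * w * x⁻¹) * (x * e * x⁻¹)⁻¹ := by
      group
    rw [e1]
    exact this
  rcases h _ h0 hN0 with h1 | h1
  · left
    rw [eq_bot_iff]
    intro u hu
    have : x⁻¹ * u * x ∈ (MulAut.conj x)⁻¹ • U := by
      rw [hmem]
      simpa [mul_assoc] using hu
    rw [h1, Subgroup.mem_bot] at this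
    rw [Subgroup.mem_bot]
    have e1 : u = x * (x⁻¹ * u * x) * x⁻¹ := by group
    rw [e1, this]
    simp
  · right
    rw [← h1, smul_inv_smul]

end basic

/-- The hypotheses of the direct product lemma, with `O_p(E) = 1` in the form "a subnormal
`p`-subgroup of `E` is trivial". -/
structure Pair (p : ℕ) (V E E₁ E₂ : Subgroup G) : Prop where
  hEV : E ≤ Subgroup.normalizer (V : Set G)
  hf : E ⊓ Subgroup.centralizer (V : Set G) = ⊥
  hgen : E = E₁ ⊔ E₂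
  hs₁ : (E₁.subgroupOf E).IsSubnormal
  hs₂ : (E₂.subgroupOf E).IsSubnormal
  hOp : ∀ P : Subgroup G, P ≤ E → (P.subgroupOf E).IsSubnormal → IsPGroup p P → P = ⊥
  hirr₁ : ∀ U : Subgroup G, U ≤ ⁅V, E₁⁆ → E₁ ≤ Subgroup.normalizer (U : Set G) →
    U = ⊥ ∨ U = ⁅V, E₁⁆
  hirr₂ : ∀ U : Subgroup G, U ≤ ⁅V, E₂⁆ → E₂ ≤ Subgroup.normalizer (U : Set G) →
    U = ⊥ ∨ U = ⁅V, E₂⁆
  h12 : ¬ ⁅V, E₁⁆ ≤ ⁅V, E₂⁆
  h21 : ¬ ⁅V, E₂⁆ ≤ ⁅V, E₁⁆
  hc₁ : 2 < Nat.card E₁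
  hc₂ : 2 < Nat.card E₂

section pair

variable [Finite G] {p : ℕ} {V E E₁ E₂ : Subgroup G}

theorem Pair.symm (P : Pair p V E E₁ E₂) : Pair p V E E₂ E₁ :=
  { hEV := P.hEV
    hf := P.hf
    hgen := by rw [P.hgen, sup_comm]
    hs₁ := P.hs₂
    hs₂ := P.hs₁
    hOp := P.hOp
    hirr₁ := P.hirr₂
    hirr₂ := P.hirr₁
    h12 := P.h21
    h21 := P.h12
    hc₁ := P.hc₂
    hc₂ := P.hc₁ }

theorem Pair.le₁ (P : Pair p V E E₁ E₂) : E₁ ≤ E := le_sup_left.trans P.hgen.ge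

theorem Pair.le₂ (P : Pair p V E E₁ E₂) : E₂ ≤ E := le_sup_right.trans P.hgen.ge

theorem Pair.V₁_le (P : Pair p V E E₁ E₂) : ⁅V, E₁⁆ ≤ V :=
  commutator_le_left_of_le_normalizer (P.le₁.trans P.hEV)

theorem Pair.norm₁ (P : Pair p V E E₁ E₂) :
    E₁ ≤ Subgroup.normalizer ((⁅V, E₁⁆ : Subgroup G) : Set G) :=
  fun e he => mem_normalizer_commutator (P.hEV (P.le₁ he)) (Subgroup.le_normalizer he)

/-- `E₁` is faithful on `[V, E₁]`. -/
theorem Pair.faithful₁ (hVp : ∀ a ∈ V, a ^ p = 1) (P : Pair p V E E₁ E₂) :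
    E₁ ⊓ qc ⁅V, E₁⁆ ⊥ = ⊥ := by
  have hCE₁ : E₁ ⊓ qc ⁅V, E₁⁆ ⊥ ≤ E₁ := inf_le_left
  have h1 : E₁ ⊓ qc ⁅V, E₁⁆ ⊥ ≤ qc V ⁅V, E₁⁆ :=
    le_qc (hCE₁.trans (P.le₁.trans P.hEV)) (Subgroup.commutator_mono le_rfl hCE₁)
  have h2 : E₁ ⊓ qc ⁅V, E₁⁆ ⊥ ≤ qc ⁅V, E₁⁆ ⊥ := inf_le_right
  have hf : (E₁ ⊓ qc ⁅V, E₁⁆ ⊥) ⊓ Subgroup.centralizer (V : Set G) = ⊥ :=
    le_bot_iff.mp ((inf_le_inf_right _ (hCE₁.trans P.le₁)).trans P.hf.le)
  have hp : IsPGroup p ↥(E₁ ⊓ qc ⁅V, E₁⁆ ⊥) := isPGroup_of_le_qc hVp P.V₁_le h1 h2 hf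
  have hn : E₁ ≤ Subgroup.normalizer ((E₁ ⊓ qc ⁅V, E₁⁆ ⊥ : Subgroup G) : Set G) := by
    apply le_normalizer_of_conj_mem
    intro e he c hc
    exact Subgroup.mem_inf.mpr ⟨mul_mem (mul_mem he (Subgroup.mem_inf.mp hc).1) (inv_mem he),
      conj_mem_qc (P.norm₁ he) (mem_normalizer_bot e) (Subgroup.mem_inf.mp hc).2⟩
  have hsn : ((E₁ ⊓ qc ⁅V, E₁⁆ ⊥).subgroupOf E).IsSubnormal := by
    apply subn_trans hCE₁ P.le₁ _ P.hs₁
    exact ((Subgroup.normal_subgroupOf_iff_le_normalizer hCE₁).mpr hn).isSubnormal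
  exact P.hOp _ (hCE₁.trans P.le₁) hsn hp

theorem Pair.eq_one_of_comm₁ (hVp : ∀ a ∈ V, a ^ p = 1) (P : Pair p V E E₁ E₂) {e : G}
    (he : e ∈ E₁) (h : ∀ w ∈ ⁅V, E₁⁆, w * e = e * w) : e = 1 := by
  have : e ∈ E₁ ⊓ qc ⁅V, E₁⁆ ⊥ := ⟨he, mem_qc_bot (P.norm₁ he) h⟩
  rw [P.faithful₁ hVp] at this
  exact Subgroup.mem_bot.mp this

/-- `E₁` has no nontrivial fixed point on `[V, E₁]`. -/
theorem Pair.fix_eq_one₁ (hVp : ∀ a ∈ V, a ^ p = 1) (P : Pair p V E E₁ E₂) {w : G}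
    (hw : w ∈ ⁅V, E₁⁆) (h : ∀ e ∈ E₁, w * e = e * w) : w = 1 := by
  have hUn : E₁ ≤ Subgroup.normalizer
      ((⁅V, E₁⁆ ⊓ Subgroup.centralizer (E₁ : Set G) : Subgroup G) : Set G) := by
    apply le_normalizer_of_conj_mem
    intro e he u hu
    have h1 : e * u * e⁻¹ = u := by
      have := (Subgroup.mem_centralizer_iff.mp (Subgroup.mem_inf.mp hu).2) e he
      rw [this]
      group
    rw [h1]
    exact hu
  rcases P.hirr₁ _ inf_le_left hUn with h0 | h0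
  · have : w ∈ ⁅V, E₁⁆ ⊓ Subgroup.centralizer (E₁ : Set G) :=
      Subgroup.mem_inf.mpr ⟨hw, Subgroup.mem_centralizer_iff.mpr (fun e he => (h e he).symm)⟩
    rw [h0] at this
    exact Subgroup.mem_bot.mp this
  · exfalso
    have hE₁ : E₁ = ⊥ := by
      rw [eq_bot_iff]
      intro e he
      rw [Subgroup.mem_bot]
      apply P.eq_one_of_comm₁ hVp he
      intro w hw
      have : w ∈ ⁅V, E₁⁆ ⊓ Subgroup.centralizer (E₁ : Set G) := by
        rw [h0]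
        exact hw
      exact ((Subgroup.mem_centralizer_iff.mp (Subgroup.mem_inf.mp this).2) e he).symm
    have := P.hc₁
    rw [hE₁] at this
    simp at this

/-- `[V, E] = [V, E₁][V, E₂]`. -/
theorem Pair.comm_eq (P : Pair p V E E₁ E₂) : ⁅V, E⁆ = ⁅V, E₁⁆ ⊔ ⁅V, E₂⁆ := by
  apply le_antisymm
  · apply commutator_le_of_le_qc
    exact P.hgen.le.trans (sup_le (le_qc (P.le₁.trans P.hEV) le_sup_left)
      (le_qc (P.le₂.trans P.hEV) le_sup_right))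
  · exact sup_le (Subgroup.commutator_mono le_rfl P.le₁) (Subgroup.commutator_mono le_rfl P.le₂)

/-- the case where `[V, E₁]` is `E₂`-invariant -/
theorem Pair.caseI (hVp : ∀ a ∈ V, a ^ p = 1) (P : Pair p V E E₁ E₂)
    (hinv : E₂ ≤ Subgroup.normalizer ((⁅V, E₁⁆ : Subgroup G) : Set G)) :
    ⁅E₁, E₂⁆ = ⊥ ∧ E₁ ⊓ E₂ = ⊥ ∧ ⁅V, E₁⁆ ⊓ ⁅V, E₂⁆ = ⊥ := by
  have hV12 : ⁅V, E₁⁆ ⊓ ⁅V, E₂⁆ = ⊥ := by
    have hn : E₂ ≤ Subgroup.normalizer ((⁅V, E₁⁆ ⊓ ⁅V, E₂⁆ : Subgroup G) : Set G) := by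
      apply le_normalizer_of_conj_mem
      intro e he w hw
      exact Subgroup.mem_inf.mpr
        ⟨conj_mem_of_mem_normalizer (hinv he) (Subgroup.mem_inf.mp hw).1,
        conj_mem_of_mem_normalizer (P.symm.norm₁ he) (Subgroup.mem_inf.mp hw).2⟩
    rcases P.hirr₂ _ inf_le_right hn with h0 | h0
    · exact h0
    · exact absurd (inf_eq_right.mp h0) P.h21
  have hE₂c : E₂ ≤ qc ⁅V, E₁⁆ ⊥ := by
    apply le_qc hinv
    rw [← hV12]
    apply le_inf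
    · exact commutator_le_left_of_le_normalizer hinv
    · exact Subgroup.commutator_mono P.V₁_le le_rfl
  have hEn : E ≤ Subgroup.normalizer ((⁅V, E₁⁆ : Subgroup G) : Set G) :=
    P.hgen.le.trans (sup_le P.norm₁ hinv)
  have hDp : IsPGroup p ↥(E ⊓ (qc V ⁅V, E₁⁆ ⊓ qc ⁅V, E₁⁆ ⊥)) :=
    isPGroup_of_le_qc hVp P.V₁_le (inf_le_right.trans inf_le_left)
      (inf_le_right.trans inf_le_right)
      (le_bot_iff.mp ((inf_le_inf_right _ inf_le_left).trans P.hf.le))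
  have hDn : E ≤ Subgroup.normalizer
      ((E ⊓ (qc V ⁅V, E₁⁆ ⊓ qc ⁅V, E₁⁆ ⊥) : Subgroup G) : Set G) := by
    apply le_normalizer_of_conj_mem
    intro e he d hd
    have hd1 := (Subgroup.mem_inf.mp hd).1
    have hd2 := Subgroup.mem_inf.mp (Subgroup.mem_inf.mp hd).2
    exact Subgroup.mem_inf.mpr ⟨mul_mem (mul_mem he hd1) (inv_mem he),
      Subgroup.mem_inf.mpr ⟨conj_mem_qc (P.hEV he) (hEn he) hd2.1,
      conj_mem_qc (hEn he) (mem_normalizer_bot e) hd2.2⟩⟩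
  have hD0 : E ⊓ (qc V ⁅V, E₁⁆ ⊓ qc ⁅V, E₁⁆ ⊥) = ⊥ :=
    P.hOp _ inf_le_left
      ((Subgroup.normal_subgroupOf_iff_le_normalizer inf_le_left).mpr hDn).isSubnormal hDp
  have hE₁q : E₁ ≤ qc V ⁅V, E₁⁆ := le_qc (P.le₁.trans P.hEV) le_rfl
  refine ⟨?_, ?_, hV12⟩
  · rw [eq_bot_iff, Subgroup.commutator_le]
    intro a ha b hb
    rw [← hD0]
    refine Subgroup.mem_inf.mpr ⟨?_, Subgroup.mem_inf.mpr ⟨?_, ?_⟩⟩
    · rw [commutatorElement_def]
      exact mul_mem (mul_mem (mul_mem (P.le₁ ha) (P.le₂ hb)) (inv_mem (P.le₁ ha)))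
        (inv_mem (P.le₂ hb))
    · have : ⁅a, b⁆ = a * (b * a⁻¹ * b⁻¹) := by simp [commutatorElement_def, mul_assoc]
      rw [this]
      exact mul_mem (hE₁q ha) (conj_mem_qc (P.hEV (P.le₂ hb)) (hinv hb) (inv_mem (hE₁q ha)))
    · have : ⁅a, b⁆ = (a * b * a⁻¹) * b⁻¹ := by simp [commutatorElement_def]
      rw [this]
      exact mul_mem (conj_mem_qc (P.norm₁ ha) (mem_normalizer_bot a) (hE₂c hb))
        (inv_mem (hE₂c hb))
  · exact le_bot_iff.mp ((inf_le_inf_left _ hE₂c).trans (P.faithful₁ hVp).le)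

/-- In the inductive situation, `E₁` centralizes every conjugate of `[V, E₁]` under `E`
different from `[V, E₁]`. -/
theorem Pair.conj_central (hVp : ∀ a ∈ V, a ^ p = 1) (P : Pair p V E E₁ E₂)
    (IH : ∀ E' E₁' E₂' : Subgroup G, Nat.card E' < Nat.card E → Pair p V E' E₁' E₂' →
      ⁅E₁', E₂'⁆ = ⊥ ∧ E₁' ⊓ E₂' = ⊥ ∧ ⁅V, E₁'⁆ ⊓ ⁅V, E₂'⁆ = ⊥)
    (hne : E₁ ≠ E) {x : G} (hx : x ∈ E)
    (hxn : x ∉ Subgroup.normalizer ((⁅V, E₁⁆ : Subgroup G) : Set G)) :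
    ∀ w ∈ MulAut.conj x • ⁅V, E₁⁆, ∀ e ∈ E₁, w * e = e * w := by
  have hxV : x ∈ Subgroup.normalizer (V : Set G) := P.hEV hx
  have hE₁'E : MulAut.conj x • E₁ ≤ E := by
    have : MulAut.conj x • E₁ ≤ MulAut.conj x • E :=
      Subgroup.pointwise_smul_le_pointwise_smul_iff.mpr P.le₁
    rwa [Subgroup.conj_smul_eq_self_of_mem hx] at this
  have hJE : E₁ ⊔ MulAut.conj x • E₁ ≤ E := sup_le P.le₁ hE₁'E
  have hs' : ((MulAut.conj x • E₁).subgroupOf E).IsSubnormal := by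
    have := Cfsg.Agent.Lib.Helper62.Wielandt.subgroupOf_smul_isSubnormal (MulAut.conj x) P.hs₁
    rwa [Subgroup.conj_smul_eq_self_of_mem hx] at this
  have hJsn : ((E₁ ⊔ MulAut.conj x • E₁).subgroupOf E).IsSubnormal := by
    rw [Subgroup.subgroupOf_sup P.le₁ hE₁'E]
    exact Cfsg.Agent.Lib.Helper62.Wielandt.sup_isSubnormal P.hs₁ hs'
  have hcomm : ⁅V, MulAut.conj x • E₁⁆ = MulAut.conj x • ⁅V, E₁⁆ := comm_conj hxV
  have hneq : MulAut.conj x • ⁅V, E₁⁆ ≠ ⁅V, E₁⁆ := fun h =>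
    hxn ((Cfsg.Agent.Lib.Helper62.Wielandt.conj_smul_eq_iff x _).mp h)
  have hcard : Nat.card (MulAut.conj x • ⁅V, E₁⁆ : Subgroup G)
      = Nat.card (⁅V, E₁⁆ : Subgroup G) :=
    Cfsg.Agent.Lib.Helper62.Wielandt.card_smul _ _
  have PJ : Pair p V (E₁ ⊔ MulAut.conj x • E₁) E₁ (MulAut.conj x • E₁) :=
    { hEV := hJE.trans P.hEV
      hf := le_bot_iff.mp ((inf_le_inf_right _ hJE).trans P.hf.le)
      hgen := rfl
      hs₁ := subn_of_le hJE P.hs₁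
      hs₂ := subn_of_le hJE hs'
      hOp := fun Q hQJ hQsn hQp => P.hOp Q (hQJ.trans hJE) (subn_trans hQJ hJE hQsn hJsn) hQp
      hirr₁ := P.hirr₁
      hirr₂ := irr_conj hxV P.hirr₁
      h12 := by
        rw [hcomm]
        intro hle
        exact hneq (Subgroup.eq_of_le_of_card_ge hle hcard.le).symm
      h21 := by
        rw [hcomm]
        intro hle
        exact hneq (Subgroup.eq_of_le_of_card_ge hle hcard.ge)
      hc₁ := P.hc₁
      hc₂ := by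
        rw [Cfsg.Agent.Lib.Helper62.Wielandt.card_smul]
        exact P.hc₁ }
  have hlt : Nat.card ↥(E₁ ⊔ MulAut.conj x • E₁) < Nat.card E := by
    apply Cfsg.Agent.Lib.Helper62.Wielandt.card_lt_of_lt
    refine lt_of_le_of_ne hJE (fun hJeq => ?_)
    have hne' : E₁.subgroupOf E ≠ ⊤ := by
      intro h
      rw [Subgroup.subgroupOf_eq_top] at h
      exact hne (le_antisymm P.le₁ h)
    obtain ⟨M, hMn, hM1, hM2⟩ := P.hs₁.exists_normal_and_le_and_lt_top_of_ne hne'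
    have hM3 : (MulAut.conj x • E₁).subgroupOf E ≤ M := by
      intro y hy
      rw [Subgroup.mem_subgroupOf, mem_conj_smul] at hy
      have h1 : (⟨x, hx⟩ : E)⁻¹ * y * ⟨x, hx⟩ ∈ E₁.subgroupOf E := by
        rw [Subgroup.mem_subgroupOf]
        exact hy
      have h2 := hMn.conj_mem _ (hM1 h1) ⟨x, hx⟩
      simpa [mul_assoc] using h2
    have htop : (E₁ ⊔ MulAut.conj x • E₁).subgroupOf E = ⊤ := by
      rw [Subgroup.subgroupOf_eq_top]
      exact hJeq.ge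
    rw [Subgroup.subgroupOf_sup P.le₁ hE₁'E] at htop
    exact hM2.ne (top_le_iff.mp (htop ▸ sup_le hM1 hM3))
  obtain ⟨hc, -, hi⟩ := IH _ E₁ (MulAut.conj x • E₁) hlt PJ
  intro w hw e he
  rw [← hcomm] at hw
  have hwV : w ∈ V := commutator_le_left_of_le_normalizer (hE₁'E.trans P.hEV) hw
  have heN : e ∈ Subgroup.normalizer ((⁅V, MulAut.conj x • E₁⁆ : Subgroup G) : Set G) := by
    apply mem_normalizer_commutator (P.hEV (P.le₁ he))
    apply Subgroup.centralizer_le_normalizer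
    have : E₁ ≤ Subgroup.centralizer ((MulAut.conj x • E₁ : Subgroup G) : Set G) :=
      Subgroup.commutator_eq_bot_iff_le_centralizer.mp hc
    exact this he
  have h1 : ⁅w, e⁆ ∈ ⁅V, E₁⁆ := Subgroup.commutator_mem_commutator hwV he
  have h2 : ⁅w, e⁆ ∈ ⁅V, MulAut.conj x • E₁⁆ := by
    have : ⁅w, e⁆ = w * (e * w⁻¹ * e⁻¹) := by simp [commutatorElement_def, mul_assoc]
    rw [this]
    exact mul_mem hw (conj_mem_of_mem_normalizer heN (inv_mem hw))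
  have h3 : ⁅w, e⁆ ∈ ⁅V, E₁⁆ ⊓ ⁅V, MulAut.conj x • E₁⁆ := Subgroup.mem_inf.mpr ⟨h1, h2⟩
  rw [hi, Subgroup.mem_bot, commutatorElement_eq_one_iff_mul_comm] at h3
  exact h3

/-- the case where neither commutator module is invariant under the other group is impossible -/
theorem Pair.caseII (hVab : ∀ a ∈ V, ∀ b ∈ V, a * b = b * a) (hVp : ∀ a ∈ V, a ^ p = 1)
    (P : Pair p V E E₁ E₂)
    (IH : ∀ E' E₁' E₂' : Subgroup G, Nat.card E' < Nat.card E → Pair p V E' E₁' E₂' →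
      ⁅E₁', E₂'⁆ = ⊥ ∧ E₁' ⊓ E₂' = ⊥ ∧ ⁅V, E₁'⁆ ⊓ ⁅V, E₂'⁆ = ⊥)
    (hn1 : ¬ E₂ ≤ Subgroup.normalizer ((⁅V, E₁⁆ : Subgroup G) : Set G))
    (hn2 : ¬ E₁ ≤ Subgroup.normalizer ((⁅V, E₂⁆ : Subgroup G) : Set G)) : False := by
  have hne1 : E₁ ≠ E := fun h => hn1 ((P.le₂.trans h.ge).trans P.norm₁)
  have hne2 : E₂ ≠ E := fun h => hn2 ((P.le₁.trans h.ge).trans P.symm.norm₁)
  obtain ⟨g, hg, hgn⟩ := SetLike.not_le_iff_exists.mp hn1
  have hgn' : g⁻¹ ∉ Subgroup.normalizer ((⁅V, E₁⁆ : Subgroup G) : Set G) := fun h' =>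
    hgn (by simpa using inv_mem h')
  have A1 := P.conj_central hVp IH hne1 (P.le₂ hg) hgn
  have A2 := P.conj_central hVp IH hne1 (P.le₂ (inv_mem hg)) hgn'
  have hgV : g ∈ Subgroup.normalizer (V : Set G) := P.hEV (P.le₂ hg)
  have key : ∀ h ∈ E₁, h ∉ Subgroup.normalizer ((⁅V, E₂⁆ : Subgroup G) : Set G) →
      ∀ v ∈ ⁅V, E₁⁆, h * v * h⁻¹ = v⁻¹ := by
    intro h hh hhn v hv
    have B1 := P.symm.conj_central hVp IH hne2 (P.le₁ hh) hhn
    have hvV : v ∈ V := P.V₁_le hv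
    have ha : g * v * g⁻¹ ∈ MulAut.conj g • ⁅V, E₁⁆ := by
      rw [mem_conj_smul]
      simpa [mul_assoc] using hv
    have hb : h * v * h⁻¹ ∈ ⁅V, E₁⁆ := conj_mem_of_mem_normalizer (P.norm₁ hh) hv
    have hc : g⁻¹ * (h * v * h⁻¹) * g ∈ MulAut.conj g⁻¹ • ⁅V, E₁⁆ := by
      rw [mem_conj_smul]
      simpa [mul_assoc] using hb
    have hu : ⁅g, v⁆ ∈ ⁅V, E₂⁆ := by
      rw [Subgroup.commutator_comm]
      exact Subgroup.commutator_mem_commutator hg hvV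
    have hu' : h * ⁅g, v⁆ * h⁻¹ ∈ MulAut.conj h • ⁅V, E₂⁆ := by
      rw [mem_conj_smul]
      simpa [mul_assoc] using hu
    have e1 := B1 _ hu' g hg
    have e2 := A1 _ ha h hh
    have haV : g * v * g⁻¹ ∈ V := conj_mem_of_mem_normalizer hgV hvV
    have hbV : h * v * h⁻¹ ∈ V := P.V₁_le hb
    have hcV : g⁻¹ * (h * v * h⁻¹) * g ∈ V := conj_mem_of_mem_normalizer' hgV hbV
    have e3 : h * ⁅g, v⁆ * h⁻¹ = (g * v * g⁻¹) * (h * v * h⁻¹)⁻¹ := by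
      have : h * ⁅g, v⁆ * h⁻¹ = (h * (g * v * g⁻¹)) * h⁻¹ * (h * v * h⁻¹)⁻¹ := by
        rw [commutatorElement_def]
        group
      rw [this, ← e2]
      group
    rw [e3] at e1
    have e4 : v * (g⁻¹ * (h * v * h⁻¹) * g)⁻¹ = (g * v * g⁻¹) * (h * v * h⁻¹)⁻¹ := by
      have : v * (g⁻¹ * (h * v * h⁻¹) * g)⁻¹
          = g⁻¹ * ((g * v * g⁻¹) * (h * v * h⁻¹)⁻¹ * g) := by group
      rw [this, e1]
      group
    have e5 : v * (h * v * h⁻¹) = (g * v * g⁻¹) * (g⁻¹ * (h * v * h⁻¹) * g) := by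
      have h1 : v = (g * v * g⁻¹) * (h * v * h⁻¹)⁻¹ * (g⁻¹ * (h * v * h⁻¹) * g) := by
        rw [← e4]
        group
      have h2 : (h * v * h⁻¹)⁻¹ * (g⁻¹ * (h * v * h⁻¹) * g)
          = (g⁻¹ * (h * v * h⁻¹) * g) * (h * v * h⁻¹)⁻¹ := hVab _ (inv_mem hbV) _ hcV
      calc v * (h * v * h⁻¹)
          = (g * v * g⁻¹) * ((h * v * h⁻¹)⁻¹ * (g⁻¹ * (h * v * h⁻¹) * g)) * (h * v * h⁻¹) := by
            nth_rewrite 1 [h1]
            simp only [mul_assoc]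
        _ = (g * v * g⁻¹) * (g⁻¹ * (h * v * h⁻¹) * g) := by
            rw [h2]
            group
    have e6 : v * (h * v * h⁻¹) = 1 := by
      apply P.fix_eq_one₁ hVp (mul_mem hv hb)
      intro e he
      rw [e5]
      have c1 := A1 _ ha e he
      have c2 := A2 _ hc e he
      rw [mul_assoc, c2, ← mul_assoc, c1, mul_assoc]
    exact eq_inv_of_mul_eq_one_right e6
  obtain ⟨h₀, hh₀, hh₀n⟩ := SetLike.not_le_iff_exists.mp hn2
  have uniq : ∀ h ∈ E₁, h ∉ Subgroup.normalizer ((⁅V, E₂⁆ : Subgroup G) : Set G) → h = h₀ := by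
    intro h hh hhn
    have : h₀⁻¹ * h = 1 := by
      apply P.eq_one_of_comm₁ hVp (mul_mem (inv_mem hh₀) hh)
      intro w hw
      have e1 := key h hh hhn w hw
      have e2 := key h₀ hh₀ hh₀n w hw
      have e3 : h * w * h⁻¹ = h₀ * w * h₀⁻¹ := e1.trans e2.symm
      calc w * (h₀⁻¹ * h) = h₀⁻¹ * (h₀ * w * h₀⁻¹) * h := by group
        _ = h₀⁻¹ * (h * w * h⁻¹) * h := by rw [e3]
        _ = h₀⁻¹ * h * w := by group
    exact (inv_mul_eq_one.mp this).symm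
  have hsub : ∀ n ∈ E₁, n = 1 ∨ n = h₀ := by
    intro n hn
    by_cases hnn : n ∈ Subgroup.normalizer ((⁅V, E₂⁆ : Subgroup G) : Set G)
    · left
      have h1 : n * h₀ ∉ Subgroup.normalizer ((⁅V, E₂⁆ : Subgroup G) : Set G) := fun h' =>
        hh₀n (by
          have := mul_mem (inv_mem hnn) h'
          simpa using this)
      have h2 := uniq (n * h₀) (mul_mem hn hh₀) h1
      exact mul_eq_right.mp h2
    · right
      exact uniq n hn hnn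
  have hcard : Nat.card E₁ ≤ 2 := by
    have hsub' : (E₁ : Set G) ⊆ {1, h₀} := fun n hn => by
      rcases hsub n hn with h | h <;> simp [h]
    calc Nat.card E₁ = (E₁ : Set G).ncard := (Nat.card_coe_set_eq _)
      _ ≤ ({1, h₀} : Set G).ncard := Set.ncard_le_ncard hsub' (Set.toFinite _)
      _ ≤ 2 := (Set.ncard_insert_le _ _).trans (by rw [Set.ncard_singleton])
  have := P.hc₁
  omega

theorem main (hVab : ∀ a ∈ V, ∀ b ∈ V, a * b = b * a) (hVp : ∀ a ∈ V, a ^ p = 1) :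
    ∀ n : ℕ, ∀ E E₁ E₂ : Subgroup G, Nat.card E = n → Pair p V E E₁ E₂ →
      ⁅E₁, E₂⁆ = ⊥ ∧ E₁ ⊓ E₂ = ⊥ ∧ ⁅V, E₁⁆ ⊓ ⁅V, E₂⁆ = ⊥ := by
  intro n
  induction n using Nat.strong_induction_on with
  | _ n ih =>
    intro E E₁ E₂ hn P
    have IH : ∀ E' E₁' E₂' : Subgroup G, Nat.card E' < Nat.card E → Pair p V E' E₁' E₂' →
        ⁅E₁', E₂'⁆ = ⊥ ∧ E₁' ⊓ E₂' = ⊥ ∧ ⁅V, E₁'⁆ ⊓ ⁅V, E₂'⁆ = ⊥ :=
      fun E' E₁' E₂' hlt P' => ih (Nat.card E') (hn ▸ hlt) E' E₁' E₂' rfl P'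
    by_cases h1 : E₂ ≤ Subgroup.normalizer ((⁅V, E₁⁆ : Subgroup G) : Set G)
    · exact P.caseI hVp h1
    by_cases h2 : E₁ ≤ Subgroup.normalizer ((⁅V, E₂⁆ : Subgroup G) : Set G)
    · obtain ⟨a, b, c⟩ := P.symm.caseI hVp h2
      exact ⟨by rw [Subgroup.commutator_comm]; exact a, by rw [inf_comm]; exact b,
        by rw [inf_comm]; exact c⟩
    · exact (P.caseII hVab hVp IH h1 h2).elim

/-- **The direct product lemma** for two subnormal subgroups irreducible on their incomparable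
commutator modules. -/
theorem pair_result (hVab : ∀ a ∈ V, ∀ b ∈ V, a * b = b * a) (hVp : ∀ a ∈ V, a ^ p = 1)
    (P : Pair p V E E₁ E₂) :
    ⁅E₁, E₂⁆ = ⊥ ∧ E₁ ⊓ E₂ = ⊥ ∧ ⁅V, E₁⁆ ⊓ ⁅V, E₂⁆ = ⊥ ∧ ⁅V, E⁆ = ⁅V, E₁⁆ ⊔ ⁅V, E₂⁆ := by
  obtain ⟨a, b, c⟩ := main hVab hVp _ E E₁ E₂ rfl P
  exact ⟨a, b, c, P.comm_eq⟩

end pair

end Cfsg.Agent.Lib.Helper49.SubnPair
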