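import Mathlib

set_option autoImplicit false

namespace Cfsg.Agent.Lib.Helper49.ThIndex

theorem card_mul_relIndex_of_le {G : Type*} [Group G] (H K : Subgroup G) (h : H ≤ K) :
    Nat.card H * H.relIndex K = Nat.card K := by
  have := Subgroup.relIndex_mul_relIndex (⊥ : Subgroup G) H K bot_le h
  rwa [Subgroup.relIndex_bot_left, Subgroup.relIndex_bot_left] at this

/-- Orbit-stabilizer for conjugation by a subgroup `N` on a set `I` that is a single `N`-class. -/
theorem card_eq_orbit_mul {G : Type*} [Group G] [Finite G] (N : Subgroup G) (I : Set G) (z : G)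
    (hI : ∀ g ∈ N, g * z * g⁻¹ ∈ I)
    (htr : ∀ y ∈ I, ∃ g ∈ N, g * z * g⁻¹ = y) :
    Nat.card N = Nat.card I * Nat.card ↥(N ⊓ Subgroup.centralizer ({z} : Set G)) := by
  classical
  choose sec hsecN hsec using (fun y : I => htr y.1 y.2)
  let f : I × ↥(N ⊓ Subgroup.centralizer ({z} : Set G)) → N := fun yc =>
    ⟨sec yc.1 * yc.2.1, N.mul_mem (hsecN _) yc.2.2.1⟩
  have hcomm : ∀ c : ↥(N ⊓ Subgroup.centralizer ({z} : Set G)), c.1 * z * c.1⁻¹ = z := by
    intro c
    have h := Subgroup.mem_centralizer_iff.mp c.2.2 z (Set.mem_singleton z)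
    rw [← h, mul_assoc, mul_inv_cancel, mul_one]
  have hconj : ∀ yc : I × ↥(N ⊓ Subgroup.centralizer ({z} : Set G)),
      (f yc).1 * z * (f yc).1⁻¹ = yc.1.1 := by
    intro yc
    show sec yc.1 * yc.2.1 * z * (sec yc.1 * yc.2.1)⁻¹ = yc.1.1
    have h1 := hcomm yc.2
    have h2 := hsec yc.1
    calc sec yc.1 * yc.2.1 * z * (sec yc.1 * yc.2.1)⁻¹
        = sec yc.1 * (yc.2.1 * z * yc.2.1⁻¹) * (sec yc.1)⁻¹ := by group
      _ = yc.1.1 := by rw [h1, h2]
  have hinj : Function.Injective f := by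
    intro a b hab
    have h1 : a.1.1 = b.1.1 := by rw [← hconj a, ← hconj b, hab]
    have h1' : a.1 = b.1 := Subtype.ext h1
    have h2 : sec a.1 * a.2.1 = sec b.1 * b.2.1 := congrArg Subtype.val hab
    rw [h1'] at h2
    have h3 : a.2.1 = b.2.1 := mul_left_cancel h2
    exact Prod.ext h1' (Subtype.ext h3)
  have hsurj : Function.Surjective f := by
    intro g
    let y : I := ⟨g.1 * z * g.1⁻¹, hI g.1 g.2⟩
    have e : sec y * z * (sec y)⁻¹ = g.1 * z * g.1⁻¹ := hsec y
    have hc : (sec y)⁻¹ * g.1 ∈ N ⊓ Subgroup.centralizer ({z} : Set G) := by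
      refine ⟨N.mul_mem (N.inv_mem (hsecN y)) g.2, Subgroup.mem_centralizer_iff.mpr ?_⟩
      rintro _ rfl
      have := congrArg (fun w => (sec y)⁻¹ * w * g.1) e
      simpa [mul_assoc] using this
    refine ⟨(y, ⟨(sec y)⁻¹ * g.1, hc⟩), ?_⟩
    apply Subtype.ext
    show sec y * ((sec y)⁻¹ * g.1) = g.1
    rw [mul_inv_cancel_left]
  exact (Nat.card_congr (Equiv.ofBijective f ⟨hinj, hsurj⟩)).symm.trans (Nat.card_prod _ _)

theorem index_bound {G : Type*} [Group G] [Finite G] (V T N : Subgroup G)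
    (hV : ∀ x : G, x ∈ V ↔ x ^ 2 = 1)
    (hT : IsPGroup 2 T) (hNT : N ≤ Subgroup.normalizer (T : Set G))
    (htrans : ∀ x y : G, x ≠ 1 → x ^ 2 = 1 → y ≠ 1 → y ^ 2 = 1 → ∃ g ∈ N, g * x * g⁻¹ = y)
    (T' : Subgroup G) (hT' : T' ≤ T) (hidx : T'.relIndex T = 2) :
    Nat.card V - 1 ≤ (N ⊓ Subgroup.normalizer (T' : Set G)).relIndex N := by
  classical
  set N' : Subgroup G := N ⊓ Subgroup.normalizer (T' : Set G) with hN'
  have hN'N : N' ≤ N := inf_le_left
  have hcardN : Nat.card N' * N'.relIndex N = Nat.card N := card_mul_relIndex_of_le N' N hN'N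
  have hrel_pos : 0 < N'.relIndex N := by
    rcases Nat.eq_zero_or_pos (N'.relIndex N) with h0 | h0
    · rw [h0, mul_zero] at hcardN
      exact absurd hcardN.symm (Nat.card_pos).ne'
    · exact h0
  rcases Nat.lt_or_ge 1 (Nat.card V) with hV1 | hV1
  swap
  · have : Nat.card V - 1 = 0 := by omega
    rw [this]; exact Nat.zero_le _
  -- the set of involutions
  let I : Set G := {x | x ≠ 1 ∧ x ^ 2 = 1}
  have hVc : (V : Set G).ncard = Nat.card V := (Nat.card_coe_set_eq (V : Set G)).symm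
  have hIcard : Nat.card I = Nat.card V - 1 := by
    have h1 : I = (V : Set G) \ {1} := by
      ext x
      simp only [I, Set.mem_ofPred_eq, Set.mem_sdiff, SetLike.mem_coe, hV x, Set.mem_singleton_iff]
      tauto
    rw [Nat.card_coe_set_eq, h1, Set.ncard_sdiff_singleton_of_mem (Subgroup.one_mem V), hVc]
  -- V is a 2-group
  have hV2 : IsPGroup 2 V := by
    intro g
    refine ⟨1, ?_⟩
    apply Subtype.ext
    have := (hV g.1).mp g.2
    simpa using this
  obtain ⟨n, hn⟩ := IsPGroup.iff_card.mp hV2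
  have hodd : ¬ 2 ∣ Nat.card V - 1 := by
    rw [hn] at hV1 ⊢
    have hn1 : n ≠ 0 := by
      rintro rfl
      simp at hV1
    obtain ⟨m, rfl⟩ := Nat.exists_eq_succ_of_ne_zero hn1
    rw [pow_succ]
    omega
  obtain ⟨z0, hz0V, hz01⟩ : ∃ z ∈ V, z ≠ 1 := by
    by_contra hcon
    have hbot : V = ⊥ := (Subgroup.eq_bot_iff_forall V).mpr
      (fun x hx => by_contra (fun h => hcon ⟨x, hx, h⟩))
    have : Nat.card V = 1 := by rw [hbot]; exact Subgroup.card_bot
    omega
  have hIconj : ∀ z ∈ I, ∀ g ∈ N, g * z * g⁻¹ ∈ I := by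
    intro z hz g _
    refine ⟨?_, ?_⟩
    · intro h
      apply hz.1
      have : z = g⁻¹ * (g * z * g⁻¹) * g := by group
      rw [this, h]; group
    · rw [conj_pow, hz.2]; group
  have horb : ∀ z ∈ I, Nat.card N =
      Nat.card I * Nat.card ↥(N ⊓ Subgroup.centralizer ({z} : Set G)) := by
    intro z hz
    exact card_eq_orbit_mul N I z (hIconj z hz)
      (fun y hy => htrans z y hz.1 hz.2 hy.1 hy.2)
  -- divisibility
  have hdvd : (Nat.card V - 1) ∣ N'.relIndex N := by
    rw [Nat.dvd_iff_prime_pow_dvd_dvd]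
    intro p k hp hpk
    rcases Nat.eq_zero_or_pos k with rfl | hk
    · simp
    have hp2 : p ≠ 2 := by
      rintro rfl
      exact hodd (dvd_trans (dvd_pow_self 2 hk.ne') hpk)
    have : Fact p.Prime := ⟨hp⟩
    obtain ⟨P⟩ : Nonempty (Sylow p ↥N') := Sylow.nonempty
    set PG : Subgroup G := (P : Subgroup ↥N').map N'.subtype with hPG
    have hPGle : PG ≤ N' := Subgroup.map_subtype_le _
    have hPGp : IsPGroup p PG := P.isPGroup'.map _
    have hPGcard : Nat.card PG = Nat.card (P : Subgroup ↥N') :=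
      Subgroup.card_map_of_injective N'.subtype_injective
    -- the set T \ T'
    let X : Set G := (T : Set G) \ (T' : Set G)
    have hT'2 : IsPGroup 2 T' := hT.to_le hT'
    obtain ⟨a, ha⟩ := IsPGroup.iff_card.mp hT'2
    have hXcard : Nat.card X = Nat.card T' := by
      have hTc : (T : Set G).ncard = Nat.card T := (Nat.card_coe_set_eq (T : Set G)).symm
      have hT'c : (T' : Set G).ncard = Nat.card T' := (Nat.card_coe_set_eq (T' : Set G)).symm
      have h2 := card_mul_relIndex_of_le T' T hT'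
      rw [hidx] at h2
      rw [Nat.card_coe_set_eq, Set.ncard_sdiff (by exact_mod_cast hT'), hTc, hT'c]
      omega
    have hpX : ¬ p ∣ Nat.card X := by
      rw [hXcard, ha]
      intro h
      exact hp2 ((Nat.prime_dvd_prime_iff_eq hp Nat.prime_two).mp (hp.dvd_of_dvd_pow h))
    have hconjX : ∀ g ∈ N', ∀ x ∈ X, g * x * g⁻¹ ∈ X := by
      intro g hg x hx
      refine ⟨?_, ?_⟩
      · exact (Subgroup.mem_normalizer_iff.mp (hNT hg.1) x).1 hx.1
      · intro h
        exact hx.2 ((Subgroup.mem_normalizer_iff.mp hg.2 x).2 h)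
    let act : MulAction ↥PG ↥X :=
      { smul := fun g x => ⟨g.1 * x.1 * g.1⁻¹, hconjX g.1 (hPGle g.2) x.1 x.2⟩
        one_smul := fun x => Subtype.ext
          (show ((1 : ↥PG) : G) * x.1 * ((1 : ↥PG) : G)⁻¹ = x.1 by simp)
        mul_smul := fun g h x => Subtype.ext
          (show ((g * h : ↥PG) : G) * x.1 * ((g * h : ↥PG) : G)⁻¹
              = g.1 * (h.1 * x.1 * h.1⁻¹) * g.1⁻¹ by
            rw [Subgroup.coe_mul]; group) }
    obtain ⟨x, hx⟩ := IsPGroup.nonempty_fixed_point_of_prime_not_dvd_card hPGp ↥X hpX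
    have hfix : ∀ g ∈ PG, g * x.1 * g⁻¹ = x.1 := fun g hg =>
      congrArg Subtype.val (MulAction.mem_fixedPoints.mp hx ⟨g, hg⟩)
    -- the involution in ⟨x⟩
    have hxT : x.1 ∈ T := x.2.1
    have hx1 : x.1 ≠ 1 := by
      intro h
      exact x.2.2 (by rw [h]; exact Subgroup.one_mem T')
    have hex : ∃ j : ℕ, x.1 ^ 2 ^ j = 1 := by
      obtain ⟨j, hj⟩ := hT ⟨x.1, hxT⟩
      exact ⟨j, by simpa using congrArg Subtype.val hj⟩
    have hj0 : Nat.find hex ≠ 0 := by
      intro h0
      have := Nat.find_spec hex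
      rw [h0] at this
      simp at this
      exact hx1 this
    obtain ⟨j, hj⟩ := Nat.exists_eq_succ_of_ne_zero hj0
    set z : G := x.1 ^ 2 ^ j with hz
    have hzI : z ∈ I := by
      refine ⟨?_, ?_⟩
      · intro h
        have := Nat.find_min hex (m := j) (by omega)
        exact this h
      · have := Nat.find_spec hex
        rw [hj, pow_succ, pow_mul] at this
        exact this
    have hzfix : ∀ g ∈ PG, g * z * g⁻¹ = z := by
      intro g hg
      rw [hz, ← conj_pow, hfix g hg]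
    have hPGCz : PG ≤ N ⊓ Subgroup.centralizer ({z} : Set G) := by
      intro g hg
      refine ⟨hN'N (hPGle hg), Subgroup.mem_centralizer_iff.mpr ?_⟩
      rintro _ rfl
      exact (mul_inv_eq_iff_eq_mul.mp (hzfix g hg)).symm
    obtain ⟨w, hw⟩ := Subgroup.card_dvd_of_le hPGCz
    have h1 := horb z hzI
    have h2 : (P : Subgroup ↥N').index * Nat.card (P : Subgroup ↥N') = Nat.card ↥N' :=
      Subgroup.index_mul_card _
    have hcop : Nat.Coprime (p ^ k) (P : Subgroup ↥N').index :=
      Nat.Coprime.pow_left k ((Nat.Prime.coprime_iff_not_dvd hp).mpr P.not_dvd_index)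
    have hapos : 0 < Nat.card PG := Nat.card_pos
    have h3 : (P : Subgroup ↥N').index * N'.relIndex N = Nat.card I * w := by
      have e1 : Nat.card PG * ((P : Subgroup ↥N').index * N'.relIndex N)
          = Nat.card PG * (Nat.card I * w) := by
        calc Nat.card PG * ((P : Subgroup ↥N').index * N'.relIndex N)
            = ((P : Subgroup ↥N').index * Nat.card (P : Subgroup ↥N')) * N'.relIndex N := by
              rw [hPGcard]; ring
          _ = Nat.card N := by rw [h2, hcardN]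
          _ = Nat.card I * (Nat.card PG * w) := by rw [h1, hw]
          _ = Nat.card PG * (Nat.card I * w) := by ring
      exact Nat.eq_of_mul_eq_mul_left hapos e1
    have h4 : p ^ k ∣ (P : Subgroup ↥N').index * N'.relIndex N := by
      rw [h3, hIcard]
      exact dvd_mul_of_dvd_left hpk w
    exact Nat.Coprime.dvd_of_dvd_mul_left hcop h4
  exact Nat.le_of_dvd hrel_pos hdvd

end Cfsg.Agent.Lib.Helper49.ThIndex
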