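import Cfsg.Agent.Lib.Helper18.R59Stmt

/-! S2359, piece FIN: the centraliser of `a` is abelian of order `n`. -/

set_option autoImplicit false

namespace Cfsg.Agent.Lib.Helper49.R59FIN

open Cfsg.Agent.Lib.Helper18.R59Stmt

universe u

theorem main : FIN.{u} := by
  intro hABS G _ _ a n ht hLoc h3
  obtain ⟨t, ht2, ht1, hta⟩ := ht
  obtain ⟨hab, hcard, t', ht'2, ht'1, ht'ne, ht'a, ht't, hV⟩ := hLoc t ht2 ht1 hta
  have hcen : ∀ x : G, x * a = a * x → x * t = t * x :=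
    hABS G a t t' ht2 ht1 hta ht'2 ht'1 ht'ne ht'a ht't hV
      (fun v hv2 hv1 hva x y hxa hxv hya hyv => (hLoc v hv2 hv1 hva).1 x y hxa hxv hya hyv) h3
  refine ⟨fun x y hx hy => hab x y hx (hcen x hx) hy (hcen y hy), ?_⟩
  rw [← hcard]
  exact Nat.card_congr (Equiv.subtypeEquivRight (fun x => ⟨fun h => ⟨h, hcen x h⟩, fun h => h.1⟩))

end Cfsg.Agent.Lib.Helper49.R59FIN
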