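import Mathlib
import Cfsg.Agent.Lib.Helper18.R59Stmt

/-!
S2359, piece R1ABS: the local structure at `(a, a₀)` in a group whose involution centraliser
is `⟨a₀⟩ × ψ(SL₂(q))`.
-/

set_option autoImplicit false

namespace Cfsg.Agent.Lib.Helper49.R59R1ABS

open Matrix Cfsg.Agent.Lib.Helper18.R59Stmt

universe u

theorem center_sq {K : Type u} [Field K] (z : SpecialLinearGroup (Fin 2) K)
    (hz : z ∈ Subgroup.center (SpecialLinearGroup (Fin 2) K)) : z * z = 1 := by
  rw [Matrix.SpecialLinearGroup.mem_center_iff] at hz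
  obtain ⟨r, hr, hz⟩ := hz
  rw [Fintype.card_fin] at hr
  apply Subtype.ext
  rw [Matrix.SpecialLinearGroup.coe_mul, ← hz, ← map_mul, ← pow_two, hr, map_one]
  rfl

theorem pow_odd_of_sq {M : Type u} [Monoid M] {c : M} (hc : c * c = 1) {p : ℕ} (hp : Odd p) :
    c ^ p = c := by
  obtain ⟨k, rfl⟩ := hp
  rw [pow_succ, pow_mul, pow_two, hc, one_pow, one_mul]

theorem main : R1ABS.{u} := by
  intro hSLC hSLI K _ _ m hK G _ ψ a₀ ha₀ ha₀r hcomm hcent hker a p hp hp2 hp3 hpq hap haa₀
  haveI : Fact p.Prime := ⟨hp⟩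
  have hpodd : Odd p := hp.odd_of_ne_two hp2
  have hap1 : a ^ p = 1 := by rw [← hap]; exact pow_orderOf_eq_one a
  have ha1 : a ≠ 1 := by
    intro h
    rw [h, orderOf_one] at hap
    exact hp.ne_one hap.symm
  have ha₀p : a₀ ^ p = a₀ := pow_odd_of_sq ha₀ hpodd
  -- Step 1: `a` lies in the range of `ψ`
  have har : a ∈ ψ.range := by
    rcases hcent a haa₀.symm with h | h
    · exact h
    · exfalso
      apply ha₀r
      obtain ⟨g0, hg0⟩ := h
      refine ⟨g0 ^ p, ?_⟩
      rw [map_pow, hg0, (show Commute a₀ a from haa₀.symm).mul_pow, hap1, mul_one, ha₀p]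
  obtain ⟨g0, hg0⟩ := har
  -- Step 2: a preimage of order `p`
  have hzc : g0 ^ p ∈ Subgroup.center (SpecialLinearGroup (Fin 2) K) := by
    rw [← hker, map_pow, hg0, hap1]
  have hzz : g0 ^ p * g0 ^ p = 1 := center_sq _ hzc
  obtain ⟨g, hgdef⟩ : ∃ g, g = g0 * g0 ^ p := ⟨_, rfl⟩
  have hψg : ψ g = a := by
    rw [hgdef, map_mul, hg0, (hker _).2 hzc, mul_one]
  have hgp : g ^ p = 1 := by
    have hc : Commute g0 (g0 ^ p) := (Commute.refl g0).pow_right p
    rw [hgdef, hc.mul_pow, pow_odd_of_sq hzz hpodd]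
    exact hzz
  have hg1 : g ≠ 1 := by
    intro h
    apply ha1
    rw [← hψg, h, map_one]
  have hgo : orderOf g = p := orderOf_eq_prime hgp hg1
  obtain ⟨hC1, hC2⟩ := hSLC K m hK g p hp hp2 hp3 hpq hgo
  obtain ⟨i₀, hi₀g, hi₀1, hi₀c, hi₀cl⟩ := hSLI hSLC K m hK g p hp hp2 hp3 hpq hgo
  -- commuting with `a` lifts to commuting with `g`
  have key : ∀ y, ψ y * a = a * ψ y → y * g = g * y := by
    intro y hy
    have hcZ : y * g * y⁻¹ * g⁻¹ ∈ Subgroup.center (SpecialLinearGroup (Fin 2) K) := by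
      rw [← hker]
      simp only [map_mul, map_inv, hψg]
      rw [hy]
      group
    have hcc : (y * g * y⁻¹ * g⁻¹) * (y * g * y⁻¹ * g⁻¹) = 1 := center_sq _ hcZ
    have hcg : Commute (y * g * y⁻¹ * g⁻¹) g := (Subgroup.mem_center_iff.mp hcZ g).symm
    have h1 : ((y * g * y⁻¹ * g⁻¹) * g) ^ p = 1 := by
      have : (y * g * y⁻¹ * g⁻¹) * g = y * g * y⁻¹ := by group
      rw [this, conj_pow, hgp, mul_one, mul_inv_cancel]
    rw [hcg.mul_pow, hgp, mul_one, pow_odd_of_sq hcc hpodd] at h1
    calc y * g = (y * g * y⁻¹ * g⁻¹) * (g * y) := by group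
      _ = g * y := by rw [h1, one_mul]
  have hA : ∀ y, Commute a₀ (ψ y) := fun y => hcomm y
  have hAa : Commute a₀ a := haa₀.symm
  have hψa : ∀ y, y * g = g * y → Commute (ψ y) a := by
    intro y hy
    show ψ y * a = a * ψ y
    rw [← hψg, ← map_mul, ← map_mul, hy]
  have memD : ∀ x, x * a = a * x → x * a₀ = a₀ * x →
      ∃ y, y * g = g * y ∧ (x = ψ y ∨ x = a₀ * ψ y) := by
    intro x hxa hxa₀
    rcases hcent x hxa₀.symm with h | h
    · obtain ⟨y, rfl⟩ := h
      exact ⟨y, key y hxa, Or.inl rfl⟩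
    · obtain ⟨y, hy⟩ := h
      have hx : x = a₀ * ψ y := by
        rw [hy, ← mul_assoc, ha₀, one_mul]
      refine ⟨y, key y ?_, Or.inr hx⟩
      have h2 : a₀ * (ψ y * a) = a₀ * (a * ψ y) := by
        rw [← mul_assoc, ← hx, hxa, hx, ← mul_assoc, ← mul_assoc, hAa.eq]
      exact mul_left_cancel h2
  have hψc : ∀ y1 y2, y1 * g = g * y1 → y2 * g = g * y2 → Commute (ψ y1) (ψ y2) := by
    intro y1 y2 h1 h2
    show ψ y1 * ψ y2 = ψ y2 * ψ y1
    rw [← map_mul, ← map_mul, hC1 y1 y2 h1 h2]
  refine ⟨?_, ?_, ?_⟩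
  · -- commutativity
    intro x y hxa hxa₀ hya hya₀
    obtain ⟨y1, hy1, hx⟩ := memD x hxa hxa₀
    obtain ⟨y2, hy2, hy⟩ := memD y hya hya₀
    have hc := hψc y1 y2 hy1 hy2
    rcases hx with rfl | rfl <;> rcases hy with rfl | rfl
    · exact hc
    · exact ((hA y1).symm.mul_right hc).eq
    · exact ((hA y2).mul_left hc).eq
    · exact (Commute.mul_left ((Commute.refl a₀).mul_right (hA y2))
        ((hA y1).symm.mul_right hc)).eq
  · -- the order
    let Cg : Subgroup (SpecialLinearGroup (Fin 2) K) := Subgroup.centralizer {g}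
    have hCg : Nat.card Cg = 3 ^ (2 * m + 1) + 1 := by
      rw [← hC2]
      exact Nat.card_congr (Equiv.subtypeEquivRight
        (fun y => Subgroup.mem_centralizer_singleton_iff))
    let φ : Cg →* G := ψ.comp Cg.subtype
    have hφr : ∀ r ∈ φ.range, ∃ y, y * g = g * y ∧ r = ψ y := by
      rintro r ⟨⟨y, hy⟩, rfl⟩
      exact ⟨y, Subgroup.mem_centralizer_singleton_iff.mp hy, rfl⟩
    have hφr' : ∀ y, y * g = g * y → ψ y ∈ φ.range := by
      intro y hy
      exact ⟨⟨y, Subgroup.mem_centralizer_singleton_iff.mpr hy⟩, rfl⟩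
    have hprod : Nat.card φ.ker * Nat.card φ.range = 3 ^ (2 * m + 1) + 1 := by
      rw [← Subgroup.index_ker, Subgroup.card_mul_index, hCg]
    have hi₀4 : (i₀ * i₀) * (i₀ * i₀) = 1 := center_sq _ hi₀c
    have hker2 : Nat.card φ.ker = 2 := by
      rw [Nat.card_eq_two_iff]
      have h1 : (i₀ * i₀) ∈ Cg := by
        rw [Subgroup.mem_centralizer_singleton_iff]
        exact (Subgroup.mem_center_iff.mp hi₀c g).symm
      have h2 : (⟨i₀ * i₀, h1⟩ : Cg) ∈ φ.ker := by
        rw [MonoidHom.mem_ker]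
        show ψ (i₀ * i₀) = 1
        exact (hker _).2 hi₀c
      refine ⟨1, ⟨⟨i₀ * i₀, h1⟩, h2⟩, ?_, ?_⟩
      · intro h
        apply hi₀1
        have := congrArg (fun x : φ.ker => ((x : Cg) : SpecialLinearGroup (Fin 2) K)) h
        exact this.symm
      · ext ⟨⟨y, hy⟩, hyk⟩
        simp only [Set.mem_insert_iff, Set.mem_singleton_iff, Set.mem_univ, iff_true]
        have hyZ : y ∈ Subgroup.center (SpecialLinearGroup (Fin 2) K) := by
          rw [← hker]
          exact hyk
        have hyy : y * y = 1 := center_sq y hyZ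
        have hyg : y * g = g * y := Subgroup.mem_centralizer_singleton_iff.mp hy
        have hyyZ : y * y ∈ Subgroup.center (SpecialLinearGroup (Fin 2) K) := by
          rw [hyy]; exact Subgroup.one_mem _
        rcases hi₀cl y hyg hyyZ with h | h | h | h
        · left
          apply Subtype.ext
          apply Subtype.ext
          exact h
        · exfalso
          rw [h] at hyy
          exact hi₀1 hyy
        · right
          apply Subtype.ext
          apply Subtype.ext
          exact h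
        · exfalso
          apply hi₀1
          rw [h] at hyy
          have h6 : i₀ * i₀ * i₀ * (i₀ * i₀ * i₀) = (i₀ * i₀) * ((i₀ * i₀) * (i₀ * i₀)) := by
            simp only [mul_assoc]
          rw [h6, hi₀4, mul_one] at hyy
          exact hyy
    rw [hker2] at hprod
    rw [← hprod]
    have hmem : ∀ (b : Bool) (r : φ.range),
        ((if b then a₀ else 1) * (r : G)) * a = a * ((if b then a₀ else 1) * (r : G)) ∧
        ((if b then a₀ else 1) * (r : G)) * a₀ = a₀ * ((if b then a₀ else 1) * (r : G)) := by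
      intro b r
      obtain ⟨y, hy, hr⟩ := hφr r r.2
      rw [hr]
      cases b
      · simp only [Bool.false_eq_true, if_false, one_mul]
        exact ⟨(hψa y hy).eq, (hA y).symm.eq⟩
      · simp only [if_true]
        exact ⟨(hAa.mul_left (hψa y hy)).eq,
          ((Commute.refl a₀).mul_left (hA y).symm).eq⟩
    let F : Bool × φ.range → {x : G // x * a = a * x ∧ x * a₀ = a₀ * x} :=
      fun br => ⟨(if br.1 then a₀ else 1) * (br.2 : G), hmem br.1 br.2⟩
    have hFinj : Function.Injective F := by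
      rintro ⟨b1, r1⟩ ⟨b2, r2⟩ h
      have h' : (if b1 then a₀ else 1) * (r1 : G) = (if b2 then a₀ else 1) * (r2 : G) :=
        congrArg Subtype.val h
      have hrange : ∀ r s : φ.range, a₀ * (r : G) ≠ (s : G) := by
        intro r s hrs
        apply ha₀r
        have h3 : a₀ = (s : G) * (r : G)⁻¹ := by rw [← hrs]; group
        rw [h3]
        have h4 : φ.range ≤ ψ.range := by
          rintro _ ⟨y, rfl⟩
          exact ⟨y, rfl⟩
        exact h4 (φ.range.mul_mem s.2 (φ.range.inv_mem r.2))
      cases b1 <;> cases b2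
      · simp only [Bool.false_eq_true, if_false, one_mul] at h'
        rw [Subtype.ext h']
      · simp only [Bool.false_eq_true, if_false, one_mul, if_true] at h'
        exact absurd h'.symm (hrange r2 r1)
      · simp only [Bool.false_eq_true, if_false, one_mul, if_true] at h'
        exact absurd h' (hrange r1 r2)
      · simp only [if_true] at h'
        rw [Subtype.ext (mul_left_cancel h')]
    have hFsurj : Function.Surjective F := by
      rintro ⟨x, hxa, hxa₀⟩
      obtain ⟨y, hy, hx⟩ := memD x hxa hxa₀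
      rcases hx with rfl | rfl
      · refine ⟨(false, ⟨ψ y, hφr' y hy⟩), ?_⟩
        apply Subtype.ext
        show (if false = true then a₀ else 1) * ψ y = ψ y
        simp
      · refine ⟨(true, ⟨ψ y, hφr' y hy⟩), ?_⟩
        apply Subtype.ext
        show (if true = true then a₀ else 1) * ψ y = a₀ * ψ y
        simp
    rw [← Nat.card_congr (Equiv.ofBijective F ⟨hFinj, hFsurj⟩), Nat.card_prod,
      Nat.card_eq_fintype_card, Fintype.card_bool]
  · -- the involutions
    have ht'1 : ψ i₀ ≠ 1 := by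
      intro h
      exact hi₀1 (center_sq _ ((hker _).1 h))
    have ht'sq : ψ i₀ * ψ i₀ = 1 := by
      rw [← map_mul]
      exact (hker _).2 hi₀c
    refine ⟨ψ i₀, ht'sq, ht'1, ?_, (hψa i₀ hi₀g).eq, (hA i₀).symm.eq, ?_⟩
    · intro h
      exact ha₀r ⟨i₀, h⟩
    · intro v hvv hva hva₀
      obtain ⟨y, hy, hv⟩ := memD v hva hva₀
      have hyy : ψ y * ψ y = 1 := by
        rcases hv with rfl | rfl
        · exact hvv
        · have h5 : a₀ * ψ y * (a₀ * ψ y) = (a₀ * a₀) * (ψ y * ψ y) := by
            rw [mul_assoc, ← mul_assoc (ψ y), ← (hA y).eq]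
            simp only [mul_assoc]
          rw [h5, ha₀, one_mul] at hvv
          exact hvv
      have hyyZ : y * y ∈ Subgroup.center (SpecialLinearGroup (Fin 2) K) := by
        rw [← hker, map_mul]
        exact hyy
      have hψy : ψ y = 1 ∨ ψ y = ψ i₀ := by
        rcases hi₀cl y hy hyyZ with h | h | h | h
        · left; rw [h, map_one]
        · right; rw [h]
        · left; rw [h]; exact (hker _).2 hi₀c
        · right; rw [h, map_mul, (hker _).2 hi₀c, one_mul]
      rcases hv with rfl | rfl <;> rcases hψy with h | h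
      · left; exact h
      · right; right; left; exact h
      · right; left; rw [h, mul_one]
      · right; right; right; rw [h]

end Cfsg.Agent.Lib.Helper49.R59R1ABS
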