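import Mathlib
import Cfsg.Prelude.Def_IsolatedElements
import Cfsg.Agent.Lib.Helper49.AxB

set_option autoImplicit false

namespace Cfsg.Agent.Lib.Helper49.Isolated

open Cfsg Cfsg.Agent.Lib.Helper49.CharP Cfsg.Agent.Lib.Helper49.AxB

variable {G : Type*} [Group G]

/-- Conjugation preserves the order. -/
theorem orderOf_conj' (g x : G) : orderOf (g * x * g⁻¹) = orderOf x :=
  orderOf_injective (MulAut.conj g).toMonoidHom (MulAut.conj g).injective x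

/-- A conjugate of an isolated element is isolated. -/
theorem isIsolated_conj {x : G} (h : IsIsolated x) (g : G) : IsIsolated (g * x * g⁻¹) := by
  intro k hk
  have h1 : Commute x ((g⁻¹ * k * g) * x * (g⁻¹ * k * g)⁻¹) := by
    have h2 := hk.eq
    show x * ((g⁻¹ * k * g) * x * (g⁻¹ * k * g)⁻¹) = ((g⁻¹ * k * g) * x * (g⁻¹ * k * g)⁻¹) * x
    have e1 : x * ((g⁻¹ * k * g) * x * (g⁻¹ * k * g)⁻¹)
        = g⁻¹ * ((g * x * g⁻¹) * (k * (g * x * g⁻¹) * k⁻¹)) * g := by group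
    have e2 : ((g⁻¹ * k * g) * x * (g⁻¹ * k * g)⁻¹) * x
        = g⁻¹ * ((k * (g * x * g⁻¹) * k⁻¹) * (g * x * g⁻¹)) * g := by group
    rw [e1, e2, h2]
  have h3 := h _ h1
  calc k * (g * x * g⁻¹) * k⁻¹ = g * ((g⁻¹ * k * g) * x * (g⁻¹ * k * g)⁻¹) * g⁻¹ := by group
    _ = g * x * g⁻¹ := by rw [h3]

/-- An isolated element of a finite `p`-subgroup is central in it. -/
theorem commute_of_mem_pGroup [Finite G] {p : ℕ} [Fact p.Prime] {x : G} (h : IsIsolated x)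
    (R : Subgroup G) (hR : IsPGroup p R) (hx : x ∈ R) : ∀ r ∈ R, Commute x r := by
  by_contra hcon
  have hne : R ⊓ Subgroup.centralizer ({x} : Set G) ≠ R := by
    intro heq
    apply hcon
    intro r hr
    have : r ∈ R ⊓ Subgroup.centralizer ({x} : Set G) := by rw [heq]; exact hr
    exact (Subgroup.mem_centralizer_iff.mp this.2) x (Set.mem_singleton x)
  obtain ⟨g, hgR, hgN, hgC⟩ := exists_mem_normalizer_not_mem hR inf_le_left hne
  have hxC : x ∈ R ⊓ Subgroup.centralizer ({x} : Set G) :=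
    ⟨hx, Subgroup.mem_centralizer_iff.mpr (fun y hy => by rw [Set.mem_singleton_iff.mp hy])⟩
  have h1 : g * x * g⁻¹ ∈ R ⊓ Subgroup.centralizer ({x} : Set G) :=
    (Subgroup.mem_normalizer_iff.mp hgN x).1 hxC
  have h2 : Commute x (g * x * g⁻¹) :=
    (Subgroup.mem_centralizer_iff.mp h1.2) x (Set.mem_singleton x)
  have h3 := h g h2
  apply hgC
  refine Subgroup.mem_inf.mpr ⟨hgR, ?_⟩
  rw [Subgroup.mem_centralizer_iff]
  intro y hy
  rw [Set.mem_singleton_iff.mp hy]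
  calc x * g = (g * x * g⁻¹) * g := by rw [h3]
    _ = g * x := by group

/-- If an isolated `p`-element `x` and a conjugate of it lie in a subgroup `H`, they are conjugate
in `H`. -/
theorem conj_in_subgroup [Finite G] {p : ℕ} [Fact p.Prime] {x : G} (h : IsIsolated x)
    (hx : ∃ k : ℕ, orderOf x = p ^ k) (H : Subgroup G) (hxH : x ∈ H) (g : G)
    (hg : g * x * g⁻¹ ∈ H) : ∃ c ∈ H, g * x * g⁻¹ = c * x * c⁻¹ := by
  obtain ⟨k, hk⟩ := hx
  have hp1 : IsPGroup p (Subgroup.zpowers (⟨x, hxH⟩ : ↥H)) := by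
    apply IsPGroup.of_card (n := k)
    rw [Nat.card_zpowers, ← hk]
    exact (Subgroup.orderOf_mk x hxH)
  have hp2 : IsPGroup p (Subgroup.zpowers (⟨g * x * g⁻¹, hg⟩ : ↥H)) := by
    apply IsPGroup.of_card (n := k)
    rw [Nat.card_zpowers, ← hk, Subgroup.orderOf_mk]
    exact orderOf_conj' g x
  obtain ⟨R₁, hR₁⟩ := hp1.exists_le_sylow
  obtain ⟨R₂, hR₂⟩ := hp2.exists_le_sylow
  obtain ⟨c, hc⟩ := MulAction.exists_smul_eq ↥H R₁ R₂
  have hxR₁ : (⟨x, hxH⟩ : ↥H) ∈ R₁ := hR₁ (Subgroup.mem_zpowers _)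
  have hx'R₂ : (⟨g * x * g⁻¹, hg⟩ : ↥H) ∈ R₂ := hR₂ (Subgroup.mem_zpowers _)
  have hcx : c * (⟨x, hxH⟩ : ↥H) * c⁻¹ ∈ R₂ := by
    rw [← hc]
    have := Subgroup.smul_mem_pointwise_smul (⟨x, hxH⟩ : ↥H) (MulAut.conj c) (R₁ : Subgroup ↥H) hxR₁
    exact this
  -- pass to G
  set R : Subgroup G := (R₂ : Subgroup ↥H).map H.subtype with hRdef
  have hRp : IsPGroup p R := R₂.isPGroup'.map H.subtype
  have m1 : (c : G) * x * (c : G)⁻¹ ∈ R := ⟨_, hcx, rfl⟩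
  have m2 : g * x * g⁻¹ ∈ R := ⟨_, hx'R₂, rfl⟩
  have hiso : IsIsolated ((c : G) * x * (c : G)⁻¹) := isIsolated_conj h c
  have hcomm := commute_of_mem_pGroup hiso R hRp m1 _ m2
  have hcomm' : Commute ((c : G) * x * (c : G)⁻¹)
      ((g * (c : G)⁻¹) * ((c : G) * x * (c : G)⁻¹) * (g * (c : G)⁻¹)⁻¹) := by
    have e : (g * (c : G)⁻¹) * ((c : G) * x * (c : G)⁻¹) * (g * (c : G)⁻¹)⁻¹ = g * x * g⁻¹ := by group
    rw [e]
    exact hcomm
  have h5 := hiso _ hcomm'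
  refine ⟨c, c.2, ?_⟩
  rw [← h5]
  group

end Cfsg.Agent.Lib.Helper49.Isolated
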