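import Mathlib
import Cfsg.Prelude.Def_IsolatedElements
import Cfsg.Prelude.Def_Transfer
import Cfsg.Agent.Lib.Helper49.Isolated

set_option autoImplicit false

namespace Cfsg.Agent.Lib.Helper49.IsolatedCyclic

open Cfsg Cfsg.Agent.Lib.Helper49.CharP Cfsg.Agent.Lib.Helper49.AxB Cfsg.Agent.Lib.Helper49.Isolated

variable {G : Type*} [Group G]

/-- If a cyclic Sylow `p`-subgroup `P` contains a nontrivial isolated element, then `N(P) ≤ C(P)`. -/
theorem normalizer_le_centralizer_of_cyclic [Finite G] {p : ℕ} [hp : Fact p.Prime] (P : Sylow p G)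
    (hcyc : IsCyclic ↥(P : Subgroup G)) (x : G) (hxP : x ∈ (P : Subgroup G)) (hx1 : x ≠ 1)
    (hiso : IsIsolated x) :
    Subgroup.normalizer ((P : Subgroup G) : Set G) ≤ Subgroup.centralizer ((P : Subgroup G) : Set G) := by
  obtain ⟨g, hg⟩ := hcyc.exists_generator
  set y : G := (g : G) with hydef
  have hyP : y ∈ (P : Subgroup G) := g.2
  -- every element of P is a natural power of y
  have hpow : ∀ z ∈ (P : Subgroup G), ∃ i : ℕ, y ^ i = z := by
    intro z hz
    have h1 : (⟨z, hz⟩ : ↥(P : Subgroup G)) ∈ Subgroup.zpowers g := hg _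
    rw [← mem_powers_iff_mem_zpowers] at h1
    obtain ⟨i, hi⟩ := (Submonoid.mem_powers_iff _ _).mp h1
    refine ⟨i, ?_⟩
    have := congrArg Subtype.val hi
    simpa using this
  obtain ⟨k, hk⟩ := P.isPGroup'.exists_card_eq
  have hord : orderOf y = p ^ k := by
    rw [hydef, Subgroup.orderOf_coe, orderOf_eq_card_of_forall_mem_zpowers hg, hk]
  obtain ⟨i, hi⟩ := hpow x hxP
  have hi_ndvd : ¬ p ^ k ∣ i := by
    intro hdvd
    apply hx1
    rw [← hi]
    rw [← hord] at hdvd
    exact orderOf_dvd_iff_pow_eq_one.mp hdvd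
  have hk1 : 1 ≤ k := by
    by_contra hk0
    have : k = 0 := by omega
    apply hi_ndvd
    rw [this, pow_zero]
    exact one_dvd _
  have hxcen : ∀ r ∈ (P : Subgroup G), Commute x r :=
    commute_of_mem_pGroup hiso (P : Subgroup G) P.isPGroup' hxP
  intro n hn
  -- it suffices that n commutes with y
  suffices hny : Commute n y by
    rw [Subgroup.mem_centralizer_iff]
    intro z hz
    obtain ⟨t, ht⟩ := hpow z hz
    rw [← ht]
    exact ((hny.pow_right t).eq).symm
  have hnyP : n * y * n⁻¹ ∈ (P : Subgroup G) := (Subgroup.mem_normalizer_iff.mp hn y).1 hyP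
  obtain ⟨j, hj⟩ := hpow _ hnyP
  -- n fixes x
  have hnx : n * x * n⁻¹ = x := by
    have h1 : n * x * n⁻¹ ∈ (P : Subgroup G) := (Subgroup.mem_normalizer_iff.mp hn x).1 hxP
    exact hiso n (hxcen _ h1)
  have hji : j * i ≡ 1 * i [MOD p ^ k] := by
    rw [← hord, ← pow_eq_pow_iff_modEq, one_mul, pow_mul, hj, hi, conj_pow, hi, hnx]
  have hppos : 0 < p ^ k := pow_pos hp.out.pos k
  have hj1 : j ≡ 1 [MOD p] := by
    have h1 := Nat.ModEq.cancel_right_div_gcd hppos hji
    obtain ⟨e, he, hge⟩ := (Nat.dvd_prime_pow hp.out).mp (Nat.gcd_dvd_left (p ^ k) i)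
    have hek : e < k := by
      rcases lt_or_eq_of_le he with h | h
      · exact h
      · exfalso
        apply hi_ndvd
        have := Nat.gcd_dvd_right (p ^ k) i
        rw [hge, h] at this
        exact this
    rw [hge, Nat.pow_div he hp.out.pos] at h1
    apply h1.of_dvd
    exact dvd_pow_self p (by omega)
  -- j ^ p^(k-1) ≡ 1 mod p^k
  have hjpow : j ^ (p ^ (k - 1)) ≡ 1 [MOD p ^ k] := by
    have h1 : (p : ℤ) ∣ (j : ℤ) - 1 := by
      have := (Int.natCast_modEq_iff.mpr hj1).symm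
      rw [Int.modEq_iff_dvd] at this
      simpa using this
    have h2 := dvd_sub_pow_of_dvd_sub h1 (k - 1)
    have hk' : k - 1 + 1 = k := by omega
    rw [hk', one_pow] at h2
    apply Int.natCast_modEq_iff.mp
    apply Int.ModEq.symm
    rw [Int.modEq_iff_dvd]
    push_cast
    exact h2
  -- action of powers of n on y
  have hact : ∀ r : ℕ, n ^ r * y * (n ^ r)⁻¹ = y ^ (j ^ r) := by
    intro r
    induction r with
    | zero => simp
    | succ r ih =>
      have e1 : n ^ (r + 1) * y * (n ^ (r + 1))⁻¹ = n * (n ^ r * y * (n ^ r)⁻¹) * n⁻¹ := by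
        rw [pow_succ']; group
      rw [e1, ih, ← conj_pow, ← hj, ← pow_mul, pow_succ']
  have hc1 : Commute (n ^ (p ^ (k - 1))) y := by
    have h1 := hact (p ^ (k - 1))
    have h2 : y ^ (j ^ (p ^ (k - 1))) = y ^ 1 := by
      rw [pow_eq_pow_iff_modEq, hord]
      exact hjpow
    rw [h2, pow_one] at h1
    show n ^ (p ^ (k - 1)) * y = y * n ^ (p ^ (k - 1))
    calc n ^ (p ^ (k - 1)) * y = (n ^ (p ^ (k - 1)) * y * (n ^ (p ^ (k - 1)))⁻¹) * n ^ (p ^ (k - 1)) := by
          group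
      _ = y * n ^ (p ^ (k - 1)) := by rw [h1]
  -- the p-part of n lies in P
  have hpos : 0 < orderOf n := orderOf_pos n
  obtain ⟨a, m, hm, ham⟩ := Nat.exists_eq_pow_mul_and_not_dvd hpos.ne' p hp.out.ne_one
  have hcop : Nat.Coprime m p := (Nat.Coprime.symm ((Nat.Prime.coprime_iff_not_dvd hp.out).mpr hm))
  have hz : (n ^ m) ^ (p ^ a) = 1 := by
    rw [← pow_mul, mul_comm, ← ham, pow_orderOf_eq_one]
  have hZp : IsPGroup p (Subgroup.zpowers (n ^ m)) := by
    intro w
    refine ⟨a, ?_⟩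
    obtain ⟨t, ht⟩ := Subgroup.mem_zpowers_iff.mp w.2
    apply Subtype.ext
    show (w : G) ^ (p ^ a) = 1
    rw [← ht, ← zpow_natCast, ← zpow_mul, mul_comm, zpow_mul, zpow_natCast, hz, one_zpow]
  have hZN : Subgroup.zpowers (n ^ m) ≤ Subgroup.normalizer ((P : Subgroup G) : Set G) :=
    (Subgroup.zpowers_le).mpr (Subgroup.pow_mem _ hn m)
  have hsup := hZp.to_sup_of_normal_right' P.isPGroup' hZN
  have heq := P.is_maximal' hsup le_sup_right
  have hnmP : n ^ m ∈ (P : Subgroup G) := by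
    rw [← heq]
    exact (le_sup_left : Subgroup.zpowers (n ^ m) ≤ _) (Subgroup.mem_zpowers _)
  have hc2 : Commute (n ^ m) y := by
    obtain ⟨t, ht⟩ := hpow _ hnmP
    rw [← ht]
    exact (Commute.refl y).pow_left t
  -- combine
  have hgcd : Nat.gcd (p ^ (k - 1)) m = 1 := Nat.Coprime.pow_left _ hcop.symm
  have hbez := Nat.gcd_eq_gcd_ab (p ^ (k - 1)) m
  rw [hgcd] at hbez
  have hn1 : n = (n ^ (p ^ (k - 1))) ^ (Nat.gcdA (p ^ (k - 1)) m) * (n ^ m) ^ (Nat.gcdB (p ^ (k - 1)) m) := by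
    rw [← zpow_natCast, ← zpow_natCast, ← zpow_mul, ← zpow_mul, ← zpow_add, ← hbez]
    simp
  rw [hn1]
  exact (hc1.zpow_left _).mul_left (hc2.zpow_left _)

/-- A nontrivial isolated `p`-element together with cyclic Sylow `p`-subgroups forces a normal
`p`-complement. -/
theorem hasNormalPComplement_of_cyclic [Finite G] {p : ℕ} [hp : Fact p.Prime] (x : G)
    (hx : ∃ k : ℕ, orderOf x = p ^ k) (hiso : IsIsolated x) (hx1 : x ≠ 1)
    (hcyc : ∀ P : Sylow p G, IsCyclic ↥(P : Subgroup G)) : HasNormalPComplement p G := by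
  obtain ⟨k, hk⟩ := hx
  have hp1 : IsPGroup p (Subgroup.zpowers x) := by
    apply IsPGroup.of_card (n := k)
    rw [Nat.card_zpowers, hk]
  obtain ⟨P, hP⟩ := hp1.exists_le_sylow
  have hxP : x ∈ (P : Subgroup G) := hP (Subgroup.mem_zpowers x)
  have hNC := normalizer_le_centralizer_of_cyclic P (hcyc P) x hxP hx1 hiso
  exact ⟨P, (MonoidHom.transferSylow P hNC).ker, inferInstance,
    MonoidHom.ker_transferSylow_isComplement' P hNC⟩

end Cfsg.Agent.Lib.Helper49.IsolatedCyclic
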