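import Mathlib
import Cfsg.Agent.Lib.Helper32.S9Stmt
import Cfsg.Agent.Lib.Helper32.S9Exc
import Cfsg.Agent.Lib.CT.FrobRec
import Cfsg.Agent.Lib.CT.IndChar
import Cfsg.Agent.Lib.CT.LinChar
import Cfsg.Agent.Lib.CT.Ops

/-! S3805 piece EXCB. -/

set_option autoImplicit false

namespace Cfsg.Agent.Lib.Helper49.S9EXCB

open Cfsg Cfsg.Agent.Lib.CT
open Cfsg.Agent.Lib.Helper32
open scoped ComplexConjugate

universe u

theorem sum_hom_coe {H : Type*} [Group H] [Fintype H] (f : H →* ℂˣ) (hf : f ≠ 1) :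
    ∑ h : H, ((f h : ℂˣ) : ℂ) = 0 := by
  have h1 : (Units.coeHom ℂ).comp f ≠ 1 := by
    intro h
    apply hf
    ext g
    have h2 := DFunLike.congr_fun h g
    simpa using h2
  exact sum_hom_units_eq_zero ((Units.coeHom ℂ).comp f) h1

theorem sum_phi {G : Type u} [Group G] (x : G)
    (f : Subgroup.centralizer ({x} : Set G) →* ℂˣ)
    [Fintype (Subgroup.centralizer ({x} : Set G))] (hf : f ≠ 1) :
    ∑ h : Subgroup.centralizer ({x} : Set G), S9Stmt.phi x f h =
      (Nat.card (Subgroup.centralizer ({x} : Set G)) : ℂ) := by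
  unfold S9Stmt.phi
  rw [Finset.sum_sub_distrib, sum_hom_coe f hf, sub_zero, Finset.sum_const, Finset.card_univ,
    Nat.card_eq_fintype_card]
  simp

theorem main : S9Stmt.EXCB.{u} := by
  intro G _ _ x f hf
  classical
  haveI : Fintype (Subgroup.centralizer ({x} : Set G)) := Fintype.ofFinite _
  have hphi : S9Stmt.phi x f = (fun _ => (1 : ℂ)) - (fun h => ((f h : ℂˣ) : ℂ)) := rfl
  refine ⟨?_, ?_, ?_, ?_⟩
  · refine ⟨indFun (Subgroup.centralizer ({x} : Set G)) (fun _ => (1 : ℂ)),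
      indFun (Subgroup.centralizer ({x} : Set G)) (fun h => ((f h : ℂˣ) : ℂ)),
      IndChar.isCharacter_indFun _ _ Ops.isCharacter_one,
      IndChar.isCharacter_indFun _ _ (LinChar.isCharacter_of_hom f), ?_⟩
    unfold S9Stmt.exc
    rw [hphi, FrobRec.indFun_sub]
  · unfold S9Stmt.exc
    rw [FrobRec.indFun_one]
    unfold S9Stmt.phi
    simp
  · unfold S9Stmt.exc
    rw [FrobRec.frobenius_reciprocity _ _ _ (fun g h => rfl)]
    unfold classInner S9Stmt.triv
    simp only [map_one, mul_one]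
    rw [sum_phi x f hf]
    exact inv_mul_cancel₀ (Nat.cast_ne_zero.mpr Nat.card_pos.ne')
  · exact fun g hg => Cfsg.Agent.Lib.Helper32.S9Exc.exc_support f g hg

end Cfsg.Agent.Lib.Helper49.S9EXCB
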