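import Mathlib
import Cfsg.Agent.Lib.Helper32.S9Stmt
import Cfsg.Agent.Lib.CT.FrobRec
import Cfsg.Agent.Lib.Helper49.S9EXCB

/-! S3805 piece EXCNORM. -/

set_option autoImplicit false

namespace Cfsg.Agent.Lib.Helper49.S9EXCNORM

open Cfsg Cfsg.Agent.Lib.CT
open Cfsg.Agent.Lib.Helper32
open scoped ComplexConjugate

universe u

theorem main : S9Stmt.EXCNORM.{u} := by
  intro G _ _ x f hf h3
  classical
  haveI : Fintype (Subgroup.centralizer ({x} : Set G)) := Fintype.ofFinite _
  have key : classInner (S9Stmt.exc x f) (S9Stmt.exc x f) =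
      classInner (S9Stmt.phi x f)
        (fun h : Subgroup.centralizer ({x} : Set G) => S9Stmt.exc x f h) :=
    FrobRec.frobenius_reciprocity _ _ _ (FrobRec.indFun_isClassFunction _ _)
  rw [key]
  unfold classInner
  have hterm : ∀ h : Subgroup.centralizer ({x} : Set G),
      S9Stmt.phi x f h * conj (S9Stmt.exc x f (h : G)) = 3 * S9Stmt.phi x f h := by
    intro h
    by_cases hf1 : f h = 1
    · have h0 : S9Stmt.phi x f h = 0 := by
        unfold S9Stmt.phi
        rw [hf1]
        simp
      rw [h0]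
      simp
    · rw [h3 h h.2 hf1, map_ofNat]
      ring
  rw [Finset.sum_congr rfl (fun h _ => hterm h), ← Finset.mul_sum, S9EXCB.sum_phi x f hf]
  have hne : (Nat.card (Subgroup.centralizer ({x} : Set G)) : ℂ) ≠ 0 :=
    Nat.cast_ne_zero.mpr Nat.card_pos.ne'
  field_simp

end Cfsg.Agent.Lib.Helper49.S9EXCNORM
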