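import Mathlib
import Cfsg.Agent.Lib.Helper32.S9Stmt
import Cfsg.Agent.Lib.Helper3.Orth

/-! S3805 piece FIB2. -/

set_option autoImplicit false

namespace Cfsg.Agent.Lib.Helper49.S9FIB2

open Cfsg
open Cfsg.Agent.Lib.Helper32
open scoped ComplexConjugate

universe u

theorem single {G : Type u} [Group G] [Fintype G] (f : G → ℂ) (u : G)
    [DecidablePred (fun v : G => IsConj u v)] :
    ∑ g : G, f (g * u * g⁻¹) =
      (Nat.card (Subgroup.centralizer ({u} : Set G)) : ℂ) *
        ∑ v ∈ Finset.univ.filter (fun v : G => IsConj u v), f v := by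
  classical
  have h1 := Finset.sum_fiberwise_of_maps_to (s := (Finset.univ : Finset G))
      (t := Finset.univ.filter (fun v : G => IsConj u v)) (g := fun g : G => g * u * g⁻¹)
      (fun g _ => Finset.mem_filter.mpr ⟨Finset.mem_univ _, isConj_iff.mpr ⟨g, rfl⟩⟩)
      (fun g => f (g * u * g⁻¹))
  rw [← h1, Finset.mul_sum]
  refine Finset.sum_congr rfl fun v hv => ?_
  have hv' : IsConj u v := (Finset.mem_filter.mp hv).2
  refine (Finset.sum_congr rfl (g := fun _ => f v)
    (fun g hg => by rw [(Finset.mem_filter.mp hg).2])).trans ?_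
  rw [Finset.sum_const, nsmul_eq_mul]
  congr 2
  have e1 := Cfsg.Agent.Lib.Helper3.Orth.card_conj_eq (g := u) (h := v) hv'
  rw [← e1]
  refine Finset.card_bij (fun g _ => g⁻¹) ?_ ?_ ?_
  · intro g hg
    rw [Finset.mem_filter] at hg ⊢
    refine ⟨Finset.mem_univ _, ?_⟩
    rw [← hg.2]
    group
  · intro a _ b _ hab
    exact inv_injective hab
  · intro y hy
    rw [Finset.mem_filter] at hy
    refine ⟨y⁻¹, ?_, inv_inv y⟩
    rw [Finset.mem_filter]
    refine ⟨Finset.mem_univ _, ?_⟩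
    rw [← hy.2]
    group

theorem main : S9Stmt.FIB2.{u} := by
  intro G _ _ F u
  classical
  have h1 : ∀ g₁ : G, ∑ g₂ : G, F (g₁ * u * g₁⁻¹) (g₂ * u * g₂⁻¹) =
      (Nat.card (Subgroup.centralizer ({u} : Set G)) : ℂ) *
        ∑ v ∈ Finset.univ.filter (fun v : G => IsConj u v), F (g₁ * u * g₁⁻¹) v :=
    fun g₁ => single (fun w => F (g₁ * u * g₁⁻¹) w) u
  simp only [h1]
  rw [← Finset.mul_sum]
  have h2 := single (fun w => ∑ v ∈ Finset.univ.filter (fun v : G => IsConj u v), F w v) u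
  rw [h2]
  ring

end Cfsg.Agent.Lib.Helper49.S9FIB2
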