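import Mathlib
import Cfsg.Agent.Lib.Helper32.S9Stmt
import Cfsg.Agent.Lib.Helper26.GenChar
import Cfsg.Agent.Lib.Helper3.Irr
import Cfsg.Agent.Lib.Helper77.DihLat
import Cfsg.Agent.Lib.CT.Ops

/-! S3805 piece GEN3. -/

set_option autoImplicit false

namespace Cfsg.Agent.Lib.Helper49.S9GEN3

open Cfsg Cfsg.Agent.Lib.CT Cfsg.Agent.Lib.CT.Wedderburn Cfsg.Agent.Lib.Helper26.GenChar
open Cfsg.Agent.Lib.Helper32 Cfsg.Agent.Lib.Helper3.Irr
open scoped ComplexConjugate

universe u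

theorem main : S9Stmt.GEN3.{u} := by
  intro G _ _ θ hθ h1 htriv hnorm
  classical
  haveI := finite_irrCharacter G
  haveI := Fintype.ofFinite (IrrCharacter G)
  obtain ⟨c, hc, he⟩ := exists_int_mult hθ
  have hsq := classInner_self_eq_sum_sq c hc he
  rw [hnorm] at hsq
  have hsq' : ∑ ψ : IrrCharacter G, c ψ * c ψ = 3 := by exact_mod_cast hsq.symm
  obtain ⟨t₀, ht₀⟩ : ∃ t₀ : IrrCharacter G, (t₀ : G → ℂ) = S9Stmt.triv G :=
    ⟨⟨fun _ => (1 : ℂ), Ops.isIrrCharacter_one⟩, rfl⟩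
  have hct : c t₀ = 1 := by
    have h2 := hc t₀
    rw [ht₀, htriv] at h2
    exact_mod_cast h2.symm
  have hrest : ∑ ψ ∈ Finset.univ.erase t₀, c ψ * c ψ = 2 := by
    have e1 := Finset.add_sum_erase Finset.univ (fun ψ => c ψ * c ψ) (Finset.mem_univ t₀)
    simp only [hsq', hct] at e1
    linarith
  obtain ⟨a, haT, b, hbT, hab, hva, hvb, hzero⟩ :=
    Cfsg.Agent.Lib.Helper77.DihLat.norm_two _ c hrest
  have ha0 : a ≠ t₀ := Finset.ne_of_mem_erase haT
  have hb0 : b ≠ t₀ := Finset.ne_of_mem_erase hbT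
  have hθ' : ∀ g, θ g = 1 + (c a : ℂ) * (a : G → ℂ) g + (c b : ℂ) * (b : G → ℂ) g := by
    intro g
    have h2 := congrFun he g
    rw [Finset.sum_apply] at h2
    rw [h2, ← Finset.add_sum_erase _ _ (Finset.mem_univ t₀), ← Finset.add_sum_erase _ _ haT,
      ← Finset.add_sum_erase _ _ (Finset.mem_erase.mpr ⟨hab.symm, hbT⟩)]
    rw [Finset.sum_eq_zero, add_zero]
    · simp only [Pi.smul_apply, smul_eq_mul, hct, ht₀, S9Stmt.triv]
      push_cast
      ring
    · intro ψ hψ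
      have hψb := Finset.ne_of_mem_erase hψ
      have hψ2 := Finset.mem_of_mem_erase hψ
      have hψa := Finset.ne_of_mem_erase hψ2
      have hψ3 := Finset.mem_of_mem_erase hψ2
      rw [hzero ψ hψ3 hψa hψb]
      simp
  obtain ⟨na, hna, ha1⟩ := IsIrrCharacter.exists_apply_one_pos a.2
  obtain ⟨nb, hnb, hb1⟩ := IsIrrCharacter.exists_apply_one_pos b.2
  have hat : (a : G → ℂ) ≠ S9Stmt.triv G := fun h => ha0 (Subtype.ext (h.trans ht₀.symm))
  have hbt : (b : G → ℂ) ≠ S9Stmt.triv G := fun h => hb0 (Subtype.ext (h.trans ht₀.symm))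
  have h10 := hθ' 1
  rw [h1, ha1, hb1] at h10
  have h10' : (0 : ℤ) = 1 + c a * na + c b * nb := by exact_mod_cast h10
  rcases hva with hva | hva <;> rcases hvb with hvb | hvb
  · exfalso
    rw [hva, hvb] at h10'
    omega
  · refine ⟨b, a, b.2, a.2, ?_, ?_, hbt, hat⟩
    · intro g
      rw [hθ' g, hva, hvb]
      push_cast
      ring
    · rw [ha1, hb1]
      rw [hva, hvb] at h10'
      have h3 : (nb : ℤ) = na + 1 := by omega
      exact_mod_cast h3
  · refine ⟨a, b, a.2, b.2, ?_, ?_, hat, hbt⟩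
    · intro g
      rw [hθ' g, hva, hvb]
      push_cast
      ring
    · rw [ha1, hb1]
      rw [hva, hvb] at h10'
      have h3 : (na : ℤ) = nb + 1 := by omega
      exact_mod_cast h3
  · exfalso
    rw [hva, hvb] at h10'
    omega

end Cfsg.Agent.Lib.Helper49.S9GEN3
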